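import Groth.Agent.ResProp.EF.K60.LevPkg
import Groth.Agent.ResProp.EF.K918.ActGam

/-!
# The action of the points of `H` on `D = D⟨0⟩`, on the chart (helper199, for helper918's (E3))

`eta0` : `o.X.eta.act ((levAct o.lev).app B h) (bc _ d) = theta k id eD B (hAct c B 0 h (o.iD d))`.
-/

set_option autoImplicit false
set_option linter.dupNamespace false

open CategoryTheory Opposite TensorProduct

noncomputable section

namespace Groth.Agent.ResProp.EF.K199.Eta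

open K784.BC K784.PM K741.RP EF56 K980 K980.BC Grp Arch K104 K208 K959.CoBC K60 K918.ActGam K918.OpTh

universe u

variable {k : Type u} [CommRing k] {A : NFᵒᵖ ⥤ CommRingCat.{u}} [GRF k A] {x : PrimeSpectrum (A.obj (op ⟨0⟩))}
  {c : CoverDatum k A x}

/-- `BC id X.D ≃ D⟨0⟩` -/
def eD (o : ALGOut c) : BC (RingHom.id (A.obj (op ⟨0⟩))) o.X.D ≃ₗ[A.obj (op ⟨0⟩)] c.Y.D.obj (op ⟨0⟩) :=
  (e0 (s0 := RingHom.id (A.obj (op ⟨0⟩))) (fun _ => rfl) o.X.D).trans o.iD.toLinearEquiv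

theorem eD_symm (o : ALGOut c) (d : o.X.D) :
    (eD o).symm (o.iD d) = bc (RingHom.id (A.obj (op ⟨0⟩))) d := by
  rw [LinearEquiv.symm_apply_eq]
  change o.iD d = o.iD (e0 (s0 := RingHom.id (A.obj (op ⟨0⟩))) (fun _ => rfl) o.X.D (bc _ d))
  rw [e0_bc]

theorem pt0_eq : (pt ⟨0⟩ 0 : (⟨0⟩ : NF) ⟶ ⟨0⟩) = 𝟙 _ := by
  funext i
  exact Subsingleton.elim (α := Fin 1) _ _

theorem rg_pt0 (d : c.Y.D.obj (op ⟨0⟩)) : rg c.Y.D (pt ⟨0⟩ 0) d = d := by
  rw [pt0_eq, rg_id]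
  rfl

variable (B : Type u) [CommRing B] [Algebra k B]

/-- `theta` is semilinear along `lvD` -/
theorem theta_lvD (o : ALGOut c) (r : B ⊗[k] A.obj (op ⟨0⟩)) (z : B ⊗[k] c.Y.D.obj (op ⟨0⟩)) :
    theta k (RingHom.id (A.obj (op ⟨0⟩))) (eD o) B (lvD c B 0 r * z) =
      r • theta k (RingHom.id (A.obj (op ⟨0⟩))) (eD o) B z := by
  induction r with
  | zero => rw [map_zero, zero_mul, map_zero, zero_smul]
  | add a b ha hb => rw [map_add, add_mul, map_add, ha, hb, add_smul]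
  | tmul b g =>
    have h1 : lvD c B 0 (b ⊗ₜ g) * z = b • ((mul k (c.Y.D.obj (op ⟨0⟩)) g).lTensor B z) := by
      induction z with
      | zero => rw [mul_zero, map_zero, smul_zero]
      | add x y hx hy => rw [mul_add, hx, hy, map_add, smul_add]
      | tmul b' m =>
        rw [LinearMap.lTensor_tmul, mul_apply, TensorProduct.smul_tmul', Algebra.smul_def]
        change (b ⊗ₜ[k] (algebraMap (A.obj (op ⟨0⟩)) (c.Y.D.obj (op ⟨0⟩)) g)) * (b' ⊗ₜ m) = _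
        rw [Algebra.TensorProduct.tmul_mul_tmul]
        rfl
    rw [h1, theta_smul, theta_mul, smul_smul, Algebra.TensorProduct.tmul_mul_tmul, one_mul, mul_one]

/-- the chart point -/
theorem tr_vtx (o : ALGOut c) (w : BC (xp k A B 0 0) o.X.D) :
    theta k (RingHom.id (A.obj (op ⟨0⟩))) (eD o) B (vtxD c B 0 0 (BC.map (xp k A B 0 0) o.iD.toLinearMap w)) =
      BC.tr (RingHom.id (B ⊗[k] A.obj (op ⟨0⟩))) (eB B) w := by
  induction w using BC.ind with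
  | h0 => simp only [map_zero]
  | h2 a b ha hb => simp only [map_add, ha, hb]
  | h1 r d =>
    rw [LinearMap.map_smul, LinearMap.map_smulₛₗ, LinearMap.map_smulₛₗ, map_bc, tr_bc]
    have h1 : vtxD c B 0 0 (bc (xp k A B 0 0) (o.iD.toLinearMap d)) = 1 ⊗ₜ o.iD d := by
      refine (BC.lift_bc _ _ _).trans ?_
      change (1 : B) ⊗ₜ[k] rg c.Y.D (pt ⟨0⟩ 0) (o.iD d) = _
      rw [rg_pt0]
    have h2 : lvD c B 0 r • vtxD c B 0 0 (bc (xp k A B 0 0) (o.iD.toLinearMap d)) =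
        lvD c B 0 r * ((1 : B) ⊗ₜ[k] o.iD d) := by rw [h1]; rfl
    refine (congrArg (theta k (RingHom.id (A.obj (op ⟨0⟩))) (eD o) B) h2).trans ?_
    rw [theta_lvD, theta_tmul, eD_symm, tr_bc]
    congr 1
    change (1 : B ⊗[k] A.obj (op ⟨0⟩)) • _ = _
    rw [one_smul]

/-- **ETA on the chart** -/
theorem eta0 (o : ALGOut c) [Module.Flat k B] (h : (K208.pts c.H).pt B) (d : o.X.D) :
    o.X.eta.act ((levAct o.lev).app B h) (bc (pB k (RingHom.id (A.obj (op ⟨0⟩))) B) d) =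
      theta k (RingHom.id (A.obj (op ⟨0⟩))) (eD o) B (hAct c B 0 h.ofConv (o.iD d)) := by
  have e1 : o.X.eta.act ((levAct o.lev).app B h) =
      BC.pullE (RingHom.id (B ⊗[k] A.obj (op ⟨0⟩))) (eB B) (eB B) (o.X.eta.act (o.lev.ar B 0 0 0 h)) :=
    o.X.eta.act_pull (RingHom.id (B ⊗[k] A.obj (op ⟨0⟩))) (eB B) (eB B) (o.lev.ar B 0 0 0 h)
  rw [e1, pullE_bc, ← tr_vtx]
  have h2 := o.eta_match B 0 0 0 h (o.iD d)
  have h3 : BC.map (xp k A B 0 0) o.iD.symm.toLinearMap (bc (xp k A B 0 0) (o.iD d)) = bc (xp k A B 0 0) d := by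
    rw [map_bc]
    congr 1
    exact o.iD.symm_apply_apply d
  rw [rg_pt0] at h2
  refine congrArg (theta k (RingHom.id (A.obj (op ⟨0⟩))) (eD o) B) ?_
  refine Eq.trans ?_ h2
  exact congrArg (fun v => vtxD c B 0 0 (BC.map (xp k A B 0 0) o.iD.toLinearMap
    (o.X.eta.act (o.lev.ar B 0 0 0 h) v))) h3.symm

end Groth.Agent.ResProp.EF.K199.Eta
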