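import Groth.Agent.ResProp.EF.K199.GPart3
import Groth.Agent.ResProp.EF.K601.Fin
import Groth.Agent.ResProp.EF.K265.HH

/-!
# The FIN datum of the `GL_r1 x GL_rm`-part over `F.R` (S16912, G1 / P7 = M8, G-part; helper199)

* `gpartL z : K541.LocK A (K62.coAlg F hX hXm) (K819.sIJ F z)`;
* `gk : K601.GK A (K62.coAlg F hX hXm) (K601.IJ F)`, with `gk.s = K819.sIJ F`;
* `isUnivGL_GG2`: the universal property for helper265's `GG2`.
-/

set_option autoImplicit false
set_option linter.unusedSectionVars false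

universe u

open Groth.Agent.Grpsch.AffGrpd Groth.Agent.ResProp.EF.K412 Groth.Agent.ResProp.EF.K62 TensorProduct

noncomputable section

namespace Groth.Agent.ResProp.EF.K199

namespace GPart

variable {A B : Type u} [CommRing A] [CommRing B] {Lb : Type u} [CommRing Lb] [Algebra Lb A] {G : RGrpd A B}
  {D : Gen Lb G} {k : Type u} [Field k] {x : A →+* k} (F : FrRing D x)
  {O : Type u} [CommRing O] [HopfAlgebra Lb O] {X : Matrix (Fin F.r1) (Fin F.r1) O}
  {Xm : Matrix (Fin F.rm) (Fin F.rm) O} (hX : IsMulMat Lb X) (hXm : IsMulMat Lb Xm)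

theorem sIJ_eq (z : K601.IJ F) : K819.sIJ F z = K62.sIJ F z.1 z.2 := rfl

theorem hs (z : K601.IJ F) : (K62.coAlg F hX hXm).ρ (K819.sIJ F z) = K819.sIJ F z ⊗ₜ[Lb] K62.chi F X Xm :=
  rho_sIJ F hX hXm z.1 z.2

section Loc

variable (z : K601.IJ F) (Ds : Type u) [CommRing Ds] [Algebra F.R Ds] [Algebra A Ds] [IsScalarTower A F.R Ds]
  [IsLocalization.Away (K62.sIJ F z.1 z.2) Ds] [Algebra Lb Ds] [IsScalarTower Lb F.R Ds] [IsScalarTower Lb A Ds]

/-- the coaction on the localisation -/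
def cz : K83.CoAlg Lb O Ds :=
  haveI : IsLocalization.Away (K819.sIJ F z) Ds := ‹IsLocalization.Away (K62.sIJ F z.1 z.2) Ds›
  K541.coLoc (s := K819.sIJ F z) (χ := K62.chi F X Xm) (K62.coAlg F hX hXm) Ds (isGroupLike_chi F hX hXm)
    (hs F hX hXm z)

theorem cz_compat (r : F.R) : (cz F hX hXm z Ds).ρ (algebraMap F.R Ds r) =
    Algebra.TensorProduct.map (IsScalarTower.toAlgHom Lb F.R Ds) (AlgHom.id Lb O) (rho F hX hXm r) :=
  haveI : IsLocalization.Away (K819.sIJ F z) Ds := ‹IsLocalization.Away (K62.sIJ F z.1 z.2) Ds›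
  K541.coLoc_compat (s := K819.sIJ F z) (χ := K62.chi F X Xm) (K62.coAlg F hX hXm) Ds (isGroupLike_chi F hX hXm)
    (hs F hX hXm z) r

/-- the local datum, any localisation -/
def gpartL' (hOG : IsUnivGL Lb X Xm) [Module.FaithfullyFlat Lb O] :
    K541.LocK A (K62.coAlg F hX hXm) (K819.sIJ F z) :=
  haveI : IsLocalization.Away (K819.sIJ F z) Ds := ‹IsLocalization.Away (K62.sIJ F z.1 z.2) Ds›
  haveI := faithfullyFlat F z.1 z.2 Ds hX hXm (cz F hX hXm z Ds).ρ (cz_compat F hX hXm z Ds) hOG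
  { Ds := Ds
    cs := cz F hX hXm z Ds
    compat := cz_compat F hX hXm z Ds
    B := BIJ F z.1 z.2 Ds
    fix := rho_fix F z.1 z.2 Ds hX hXm (cz F hX hXm z Ds).ρ (cz_compat F hX hXm z Ds)
    pts := ptsGal F z.1 z.2 Ds hX hXm (cz F hX hXm z Ds).ρ (cz_compat F hX hXm z Ds) hOG }

theorem gen' (hOG : IsUnivGL Lb X Xm) [Module.FaithfullyFlat Lb O] (b : (gpartL' F hX hXm z Ds hOG).B) :
    b ∈ Algebra.adjoin A {y : (gpartL' F hX hXm z Ds hOG).B | ∃ j,
      algebraMap (gpartL' F hX hXm z Ds hOG).B (gpartL' F hX hXm z Ds hOG).Ds y *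
        algebraMap F.R (gpartL' F hX hXm z Ds hOG).Ds (K819.sIJ F z) =
          algebraMap F.R (gpartL' F hX hXm z Ds hOG).Ds (K819.sIJ F j)} := by
  have h := adjoin_eq F z.1 z.2 Ds b
  refine Algebra.adjoin_mono ?_ h
  rintro y ⟨I', J', hy⟩
  exact ⟨(I', J'), hy⟩

end Loc

/-- **the local datum** -/
def gpartL (hOG : IsUnivGL Lb X Xm) [Module.FaithfullyFlat Lb O] (z : K601.IJ F) :
    K541.LocK A (K62.coAlg F hX hXm) (K819.sIJ F z) :=
  gpartL' F hX hXm z (Localization.Away (K62.sIJ F z.1 z.2)) hOG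

/-- **the datum** -/
def gk (hOG : IsUnivGL Lb X Xm) [Module.FaithfullyFlat Lb O] : K601.GK A (K62.coAlg F hX hXm) (K601.IJ F) where
  χ := K62.chi F X Xm
  hχ := isGroupLike_chi F hX hXm
  s := K819.sIJ F
  hs := hs F hX hXm
  loc z := gpartL F hX hXm hOG z
  gen z b := gen' F hX hXm z (Localization.Away (K62.sIJ F z.1 z.2)) hOG b

theorem gk_s (hOG : IsUnivGL Lb X Xm) [Module.FaithfullyFlat Lb O] : (gk F hX hXm hOG).s = K819.sIJ F := rfl

end GPart

section Univ

variable (k : Type u) [CommRing k] (r1 rm : ℕ)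

/-- the universal matrix of `GL_r1` in `O(GL_r1 × GL_rm)` -/
def gg1 : Matrix (Fin r1) (Fin r1) (K265.GG2 k r1 rm).O :=
  (CoordGrp.GLn.genMat r1 k).map (K374.inlB : (K653.GpGL r1 k).O →ₐc[k] (K265.GG2 k r1 rm).O)

/-- the universal matrix of `GL_rm` in `O(GL_r1 × GL_rm)` -/
def ggm : Matrix (Fin rm) (Fin rm) (K265.GG2 k r1 rm).O :=
  (CoordGrp.GLn.genMat rm k).map (K374.inrB : (K653.GpGL rm k).O →ₐc[k] (K265.GG2 k r1 rm).O)

theorem isMulMat_gg1 : IsMulMat k (gg1 k r1 rm) := K265.isMulMat_map (K265.isMulMat_gen k r1) _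

theorem isMulMat_ggm : IsMulMat k (ggm k r1 rm) := K265.isMulMat_map (K265.isMulMat_gen k rm) _

/-- **the universal property of `GL_r1 × GL_rm`** -/
theorem isUnivGL_GG2 : IsUnivGL k (gg1 k r1 rm) (ggm k r1 rm) := by
  intro T _ _ X0 Xm0 h1 hm
  refine ⟨Algebra.TensorProduct.productMap ((K374.univ_gl (k := k) r1).pt X0 h1)
    ((K374.univ_gl (k := k) rm).pt Xm0 hm), ⟨?_, ?_⟩, ?_⟩
  · ext i j
    change (K374.univ_gl (k := k) r1).pt X0 h1 (CoordGrp.GLn.genMat r1 k i j) *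
      (K374.univ_gl (k := k) rm).pt Xm0 hm 1 = _
    rw [map_one, mul_one]
    exact (K374.univ_gl (k := k) r1).pt_apply X0 h1 i j
  · ext i j
    change (K374.univ_gl (k := k) r1).pt X0 h1 1 *
      (K374.univ_gl (k := k) rm).pt Xm0 hm (CoordGrp.GLn.genMat rm k i j) = _
    rw [map_one, one_mul]
    exact (K374.univ_gl (k := k) rm).pt_apply Xm0 hm i j
  · rintro f ⟨f1, f2⟩
    refine Algebra.TensorProduct.ext' fun c d => ?_
    have h3 : f.comp (Algebra.TensorProduct.includeLeft : (K653.GpGL r1 k).O →ₐ[k] (K265.GG2 k r1 rm).O) =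
        (K374.univ_gl (k := k) r1).pt X0 h1 := by
      refine (K374.univ_gl (k := k) r1).ext ?_
      rw [K374.Univ.map_pt]
      exact f1
    have h4 : f.comp (Algebra.TensorProduct.includeRight : (K653.GpGL rm k).O →ₐ[k] (K265.GG2 k r1 rm).O) =
        (K374.univ_gl (k := k) rm).pt Xm0 hm := by
      refine (K374.univ_gl (k := k) rm).ext ?_
      rw [K374.Univ.map_pt]
      exact f2
    have e : (c ⊗ₜ[k] d : (K265.GG2 k r1 rm).O) = (c ⊗ₜ[k] 1) * (1 ⊗ₜ[k] d) := by
      rw [Algebra.TensorProduct.tmul_mul_tmul, one_mul, mul_one]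
    rw [Algebra.TensorProduct.productMap_apply_tmul, ← h3, ← h4, e, map_mul]
    rfl

end Univ

/-- the coordinate ring of a group is faithfully flat when it is free -/
theorem faithfullyFlat_of_free (k O : Type u) [CommRing k] [CommRing O] [HopfAlgebra k O] [Module.Free k O] :
    Module.FaithfullyFlat k O := by
  rcases subsingleton_or_nontrivial k with h | h
  · exact
    { submodule_ne_top := fun m hm => (hm.ne_top (Subsingleton.elim _ _)).elim }
  · have : Nontrivial O := (Bialgebra.counitAlgHom k O).toRingHom.domain_nontrivial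
    infer_instance

end Groth.Agent.ResProp.EF.K199
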