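import Groth.Agent.ResProp.EF.K199.TorsPts
import Groth.Agent.ResProp.EF.K62.Rho

/-!
# The `GL_r1 x GL_rm`-torsor `F.R[1/s_IJ] / B_IJ` (S16912, G1 / P7, G-part; helper199)

`F : FrRing D x`, `O` a Hopf algebra over `Lb` with the universal property of `GL_r1 × GL_rm`, `Ds` a localization of
`F.R` away from `s_IJ`, `ρs` the coaction on `Ds`.  `BIJ ⊆ Ds` is the `A`-subalgebra generated by the `y` with
`y s_IJ = s_I'J'`.

* `rho_fix`: `ρs` fixes `BIJ`;
* `entryM_mem`, `entryMm_mem` (Cramer): the entries of `M_I⁻¹ M`, `Mm_J⁻¹ Mm` are in `BIJ`;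
* `adjoin_eq`: the `gen` field of `FinDatum`;
* `ptsGal`: the point condition;
* `faithfullyFlat`: `BIJ → Ds` is faithfully flat, because `BIJ ⊗ O ≃ Ds`.
-/

set_option autoImplicit false
set_option linter.unusedSectionVars false

universe u

open Groth.Agent.Grpsch.AffGrpd Groth.Agent.ResProp.EF.K412 Groth.Agent.ResProp.EF.K62 TensorProduct

noncomputable section

namespace Groth.Agent.ResProp.EF.K199

/-- the universal property of `GL_r1 × GL_rm` for `(O, X, Xm)` over `Lb` -/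
def IsUnivGL (Lb : Type u) [CommRing Lb] {O : Type u} [CommRing O] [Algebra Lb O] {r rm : Type} [Fintype r]
    [DecidableEq r] [Fintype rm] [DecidableEq rm] (X : Matrix r r O) (Xm : Matrix rm rm O) : Prop :=
  ∀ (T : Type u) [CommRing T] [Algebra Lb T] (X0 : Matrix r r T) (Xm0 : Matrix rm rm T), IsUnit X0.det →
    IsUnit Xm0.det → ∃! γ : O →ₐ[Lb] T, X.map γ = X0 ∧ Xm.map γ = Xm0

theorem mem_adjoin_coe {A Ds : Type u} [CommRing A] [CommRing Ds] [Algebra A Ds] (S : Set Ds) (C : Subalgebra A Ds)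
    (hC : C = Algebra.adjoin A S) (b : C) : b ∈ Algebra.adjoin A (((↑) : C → Ds) ⁻¹' S) := by
  subst hC
  rw [Algebra.adjoin_adjoin_coe_preimage]
  exact Algebra.mem_top

namespace GPart

variable {A B : Type u} [CommRing A] [CommRing B] {Lb : Type u} [CommRing Lb] [Algebra Lb A] {G : RGrpd A B}
  {D : Gen Lb G} {k : Type u} [Field k] {x : A →+* k} (F : FrRing D x)
  (I : Fin F.r1 → Fin D.n) (J : Fin F.rm → (Fin D.m → Fin D.n))

section Points

variable {T : Type u} [CommRing T]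

/-- the minors at a point -/
theorem map_sIJ (f : F.R →+* T) : f (sIJ F I J) =
    ((F.P.map f).M.submatrix id I).det * ((F.P.map f).Mm.submatrix id J).det := by
  rw [sIJ, map_mul, RingHom.map_det, RingHom.map_det]
  rfl

theorem unitM {f : F.R →+* T} (h : IsUnit (f (sIJ F I J))) : IsUnit ((F.P.map f).M.submatrix id I).det :=
  isUnit_of_mul_isUnit_left (map_sIJ F I J f ▸ h)

theorem unitMm {f : F.R →+* T} (h : IsUnit (f (sIJ F I J))) : IsUnit ((F.P.map f).Mm.submatrix id J).det :=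
  isUnit_of_mul_isUnit_right (map_sIJ F I J f ▸ h)

/-- the closed relation in matrix form -/
theorem mm_eq (f : F.R →+* T) : (F.P.map f).Mm = (F.P.map f).mu * tp D.m (F.P.map f).M := by
  ext b K
  have h := congrArg f (F.closed.hmu b K)
  rw [map_sum] at h
  refine h.trans ?_
  rw [Matrix.mul_apply]
  refine Finset.sum_congr rfl fun Q _ => ?_
  rw [map_mul, map_prod]
  rfl

theorem submatrix_mul_cols {ι κ l : Type} [Fintype κ] {l' : Type} (X : Matrix ι κ T) (Y : Matrix κ l T) (g : l' → l) :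
    (X * Y).submatrix id g = X * Y.submatrix id g := by
  ext i j
  rfl

/-- two points whose frames have the same "slices" differ by an element of the group -/
theorem gtrans_of_eq {f f' : F.R →+* T} (h : IsUnit (f (sIJ F I J))) (h' : IsUnit (f' (sIJ F I J)))
    (ha : (F.P.map f').a = (F.P.map f).a)
    (hM : ((F.P.map f').M.submatrix id I)⁻¹ * (F.P.map f').M = ((F.P.map f).M.submatrix id I)⁻¹ * (F.P.map f).M)
    (hMm : ((F.P.map f').Mm.submatrix id J)⁻¹ * (F.P.map f').Mm = ((F.P.map f).Mm.submatrix id J)⁻¹ * (F.P.map f).Mm) :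
    IsGTrans ((F.P.map f').M.submatrix id I * ((F.P.map f).M.submatrix id I)⁻¹)
      ((F.P.map f').Mm.submatrix id J * ((F.P.map f).Mm.submatrix id J)⁻¹) (F.P.map f) (F.P.map f') := by
  have e1 : (F.P.map f').M = ((F.P.map f').M.submatrix id I * ((F.P.map f).M.submatrix id I)⁻¹) * (F.P.map f).M := by
    rw [Matrix.mul_assoc, ← hM, ← Matrix.mul_assoc, Matrix.mul_nonsing_inv _ (unitM F I J h'), Matrix.one_mul]
  have e2 : (F.P.map f').Mm =
      ((F.P.map f').Mm.submatrix id J * ((F.P.map f).Mm.submatrix id J)⁻¹) * (F.P.map f).Mm := by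
    rw [Matrix.mul_assoc, ← hMm, ← Matrix.mul_assoc, Matrix.mul_nonsing_inv _ (unitMm F I J h'), Matrix.one_mul]
  refine ⟨ha, e1, e2, ?_⟩
  rw [hmu_iff]
  set X0 := (F.P.map f').M.submatrix id I * ((F.P.map f).M.submatrix id I)⁻¹ with hX0
  set Xm0 := (F.P.map f').Mm.submatrix id J * ((F.P.map f).Mm.submatrix id J)⁻¹ with hXm0
  have e3 : (F.P.map f').mu * tp D.m X0 * tp D.m (F.P.map f).M = Xm0 * (F.P.map f).mu * tp D.m (F.P.map f).M := by
    rw [Matrix.mul_assoc, ← tp_mul, ← e1, ← mm_eq F f', Matrix.mul_assoc, ← mm_eq F f, ← e2]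
  -- cancel
  have hu : IsUnit ((F.P.map f).M.submatrix id I) := (Matrix.isUnit_iff_isUnit_det _).2 (unitM F I J h)
  obtain ⟨⟨Z, W, w1, w2⟩, hZ⟩ := isUnit_tp D.m hu
  have hZ' : Z = tp D.m ((F.P.map f).M.submatrix id I) := hZ
  have e4 : ∀ Y : Matrix (Fin F.rm) (Fin D.m → Fin F.r1) T,
      (Y * tp D.m (F.P.map f).M).submatrix id (fun Q : Fin D.m → Fin F.r1 => fun k => I (Q k)) = Y * Z := by
    intro Y
    rw [submatrix_mul_cols, hZ']
    rfl
  have e5 := congrArg (fun Y => Matrix.submatrix Y id (fun Q : Fin D.m → Fin F.r1 => fun k => I (Q k))) e3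
  have e6 : (F.P.map f').mu * tp D.m X0 * Z = Xm0 * (F.P.map f).mu * Z := by
    rw [← e4, ← e4]
    exact e5
  calc (F.P.map f').mu * tp D.m X0 = (F.P.map f').mu * tp D.m X0 * Z * W := by
        rw [Matrix.mul_assoc, w1, Matrix.mul_one]
    _ = Xm0 * (F.P.map f).mu * Z * W := by rw [e6]
    _ = Xm0 * (F.P.map f).mu := by rw [Matrix.mul_assoc, w1, Matrix.mul_one]

theorem gtrans_slice {X0 : Matrix (Fin F.r1) (Fin F.r1) T} {Xm0 : Matrix (Fin F.rm) (Fin F.rm) T} {f f' : F.R →+* T}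
    (h : IsGTrans X0 Xm0 (F.P.map f) (F.P.map f')) :
    (F.P.map f').M.submatrix id I = X0 * (F.P.map f).M.submatrix id I := by
  rw [h.hM, submatrix_mul_cols]

theorem gtrans_slicem {X0 : Matrix (Fin F.r1) (Fin F.r1) T} {Xm0 : Matrix (Fin F.rm) (Fin F.rm) T} {f f' : F.R →+* T}
    (h : IsGTrans X0 Xm0 (F.P.map f) (F.P.map f')) :
    (F.P.map f').Mm.submatrix id J = Xm0 * (F.P.map f).Mm.submatrix id J := by
  rw [h.hMm, submatrix_mul_cols]

end Points

section Slice

variable (Ds : Type u) [CommRing Ds] [Algebra F.R Ds]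

/-- the generators of `BIJ` -/
def gens : Set Ds := {y | ∃ I' J', y * algebraMap F.R Ds (sIJ F I J) = algebraMap F.R Ds (sIJ F I' J')}

variable [Algebra A Ds] [IsScalarTower A F.R Ds]

/-- **`BIJ`** -/
def BIJ : Subalgebra A Ds := Algebra.adjoin A (gens F I J Ds)

/-- `gen` -/
theorem adjoin_eq (b : BIJ F I J Ds) :
    b ∈ Algebra.adjoin A (((↑) : BIJ F I J Ds → Ds) ⁻¹' (gens F I J Ds)) :=
  mem_adjoin_coe (gens F I J Ds) (BIJ F I J Ds) rfl b

variable [IsLocalization.Away (sIJ F I J) Ds]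

theorem isUnit_s : IsUnit (algebraMap F.R Ds (sIJ F I J)) := IsLocalization.Away.algebraMap_isUnit _

/-- Cramer -/
theorem entryM_mem (i : Fin F.r1) (j : Fin D.n) :
    (((F.P.map (algebraMap F.R Ds)).M.submatrix id I)⁻¹ * (F.P.map (algebraMap F.R Ds)).M) i j ∈ BIJ F I J Ds := by
  refine Algebra.subset_adjoin ⟨Function.update I i j, J, ?_⟩
  set P := F.P.map (algebraMap F.R Ds) with hP
  have hu := unitM F I J (isUnit_s F I J Ds)
  have h1 := congrFun (Matrix.det_smul_inv_mulVec_eq_cramer (P.M.submatrix id I) (fun b => P.M b j) hu) i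
  rw [Matrix.cramer_apply, Pi.smul_apply, smul_eq_mul] at h1
  have h2 : ((P.M.submatrix id I)⁻¹.mulVec fun b => P.M b j) i = ((P.M.submatrix id I)⁻¹ * P.M) i j := by
    rw [Matrix.mul_apply]
    rfl
  have h3 : (P.M.submatrix id I).updateCol i (fun b => P.M b j) = P.M.submatrix id (Function.update I i j) := by
    ext b c
    rw [Matrix.updateCol_apply, Matrix.submatrix_apply, Matrix.submatrix_apply, Function.update_apply]
    split_ifs <;> rfl
  rw [h2, h3] at h1
  rw [map_sIJ, map_sIJ, ← h1]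
  ring

/-- Cramer -/
theorem entryMm_mem (i : Fin F.rm) (j : Fin D.m → Fin D.n) :
    (((F.P.map (algebraMap F.R Ds)).Mm.submatrix id J)⁻¹ * (F.P.map (algebraMap F.R Ds)).Mm) i j ∈ BIJ F I J Ds := by
  refine Algebra.subset_adjoin ⟨I, Function.update J i j, ?_⟩
  set P := F.P.map (algebraMap F.R Ds) with hP
  have hu := unitMm F I J (isUnit_s F I J Ds)
  have h1 := congrFun (Matrix.det_smul_inv_mulVec_eq_cramer (P.Mm.submatrix id J) (fun b => P.Mm b j) hu) i
  rw [Matrix.cramer_apply, Pi.smul_apply, smul_eq_mul] at h1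
  have h2 : ((P.Mm.submatrix id J)⁻¹.mulVec fun b => P.Mm b j) i = ((P.Mm.submatrix id J)⁻¹ * P.Mm) i j := by
    rw [Matrix.mul_apply]
    rfl
  have h3 : (P.Mm.submatrix id J).updateCol i (fun b => P.Mm b j) = P.Mm.submatrix id (Function.update J i j) := by
    ext b c
    rw [Matrix.updateCol_apply, Matrix.submatrix_apply, Matrix.submatrix_apply, Function.update_apply]
    split_ifs <;> rfl
  rw [h2, h3] at h1
  rw [map_sIJ, map_sIJ, ← h1]
  ring

theorem exists_slice : ∃ r : F.R →+* Ds, IsGTrans (((F.P.map (algebraMap F.R Ds)).M.submatrix id I)⁻¹)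
    (((F.P.map (algebraMap F.R Ds)).Mm.submatrix id J)⁻¹) (F.P.map (algebraMap F.R Ds)) (F.P.map r) :=
  F.gact (algebraMap F.R Ds) _ _
    ((Matrix.isUnit_iff_isUnit_det _).2 (Matrix.isUnit_nonsing_inv_det _ (unitM F I J (isUnit_s F I J Ds))))
    ((Matrix.isUnit_iff_isUnit_det _).2 (Matrix.isUnit_nonsing_inv_det _ (unitMm F I J (isUnit_s F I J Ds))))

/-- the slice `(M_I⁻¹, Mm_J⁻¹) • P` -/
def slice0 : F.R →+* Ds := (exists_slice F I J Ds).choose

theorem slice0_spec : IsGTrans (((F.P.map (algebraMap F.R Ds)).M.submatrix id I)⁻¹)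
    (((F.P.map (algebraMap F.R Ds)).Mm.submatrix id J)⁻¹) (F.P.map (algebraMap F.R Ds)) (F.P.map (slice0 F I J Ds)) :=
  (exists_slice F I J Ds).choose_spec

theorem slice0_a (a : A) : slice0 F I J Ds (F.P.a a) = algebraMap F.R Ds (F.P.a a) :=
  RingHom.congr_fun (slice0_spec F I J Ds).ha a

theorem slice0_MI : (F.P.map (slice0 F I J Ds)).M.submatrix id I = 1 := by
  rw [gtrans_slice F I (slice0_spec F I J Ds), Matrix.nonsing_inv_mul _ (unitM F I J (isUnit_s F I J Ds))]

theorem slice0_MmJ : (F.P.map (slice0 F I J Ds)).Mm.submatrix id J = 1 := by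
  rw [gtrans_slicem F J (slice0_spec F I J Ds), Matrix.nonsing_inv_mul _ (unitMm F I J (isUnit_s F I J Ds))]

theorem slice0_s : slice0 F I J Ds (sIJ F I J) = 1 := by
  rw [map_sIJ, slice0_MI, slice0_MmJ, Matrix.det_one, Matrix.det_one, one_mul]

theorem slice0_s' (I' : Fin F.r1 → Fin D.n) (J' : Fin F.rm → (Fin D.m → Fin D.n)) :
    slice0 F I J Ds (sIJ F I' J') * algebraMap F.R Ds (sIJ F I J) = algebraMap F.R Ds (sIJ F I' J') := by
  rw [map_sIJ F I' J', map_sIJ F I J, map_sIJ F I' J', gtrans_slice F I' (slice0_spec F I J Ds),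
    gtrans_slicem F J' (slice0_spec F I J Ds), Matrix.det_mul, Matrix.det_mul]
  have h1 : ((F.P.map (algebraMap F.R Ds)).M.submatrix id I)⁻¹.det *
      ((F.P.map (algebraMap F.R Ds)).M.submatrix id I).det = 1 := by
    rw [← Matrix.det_mul, Matrix.nonsing_inv_mul _ (unitM F I J (isUnit_s F I J Ds)), Matrix.det_one]
  have h2 : ((F.P.map (algebraMap F.R Ds)).Mm.submatrix id J)⁻¹.det *
      ((F.P.map (algebraMap F.R Ds)).Mm.submatrix id J).det = 1 := by
    rw [← Matrix.det_mul, Matrix.nonsing_inv_mul _ (unitMm F I J (isUnit_s F I J Ds)), Matrix.det_one]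
  linear_combination (((F.P.map (algebraMap F.R Ds)).M.submatrix id I').det *
    ((F.P.map (algebraMap F.R Ds)).Mm.submatrix id J').det) * (h1 * ((F.P.map (algebraMap F.R Ds)).Mm.submatrix id J)⁻¹.det *
      ((F.P.map (algebraMap F.R Ds)).Mm.submatrix id J).det + h2)

/-- the image of the slice is in `BIJ` -/
theorem slice0_mem (r : F.R) : slice0 F I J Ds r ∈ BIJ F I J Ds := by
  have key : ∀ r ∈ Subring.closure (Set.range F.P.a ∪ Set.range (fun z : Fin F.r1 × Fin D.n => F.P.M z.1 z.2) ∪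
      Set.range (fun z : Fin F.rm × (Fin D.m → Fin D.n) => F.P.Mm z.1 z.2) ∪
      Set.range (fun z : Fin F.rm × (Fin D.m → Fin F.r1) => F.P.mu z.1 z.2)),
      r ∈ (BIJ F I J Ds).toSubring.comap (slice0 F I J Ds) := by
    intro r hr
    refine (Subring.closure_le.2 ?_) hr
    rintro z (((⟨a, rfl⟩ | ⟨p, rfl⟩) | ⟨p, rfl⟩) | ⟨p, rfl⟩)
    · change slice0 F I J Ds (F.P.a a) ∈ BIJ F I J Ds
      rw [slice0_a]
      have : algebraMap F.R Ds (F.P.a a) = algebraMap A Ds a := (IsScalarTower.algebraMap_apply A F.R Ds a).symm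
      rw [this]
      exact (BIJ F I J Ds).algebraMap_mem a
    · have h : slice0 F I J Ds (F.P.M p.1 p.2) = (((F.P.map (algebraMap F.R Ds)).M.submatrix id I)⁻¹ *
          (F.P.map (algebraMap F.R Ds)).M) p.1 p.2 := congrFun (congrFun (slice0_spec F I J Ds).hM p.1) p.2
      change slice0 F I J Ds (F.P.M p.1 p.2) ∈ BIJ F I J Ds
      rw [h]
      exact entryM_mem F I J Ds p.1 p.2
    · have h : slice0 F I J Ds (F.P.Mm p.1 p.2) = (((F.P.map (algebraMap F.R Ds)).Mm.submatrix id J)⁻¹ *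
          (F.P.map (algebraMap F.R Ds)).Mm) p.1 p.2 := congrFun (congrFun (slice0_spec F I J Ds).hMm p.1) p.2
      change slice0 F I J Ds (F.P.Mm p.1 p.2) ∈ BIJ F I J Ds
      rw [h]
      exact entryMm_mem F I J Ds p.1 p.2
    · have h1 : (F.P.map (slice0 F I J Ds)).Mm.submatrix id (fun Q : Fin D.m → Fin F.r1 => fun k => I (Q k)) =
          (F.P.map (slice0 F I J Ds)).mu := by
        rw [mm_eq, submatrix_mul_cols]
        have : (tp D.m (F.P.map (slice0 F I J Ds)).M).submatrix id (fun Q : Fin D.m → Fin F.r1 => fun k => I (Q k)) =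
            tp D.m ((F.P.map (slice0 F I J Ds)).M.submatrix id I) := rfl
        rw [this, slice0_MI, tp_one, Matrix.mul_one]
      have h : slice0 F I J Ds (F.P.mu p.1 p.2) = (((F.P.map (algebraMap F.R Ds)).Mm.submatrix id J)⁻¹ *
          (F.P.map (algebraMap F.R Ds)).Mm) p.1 (fun k => I (p.2 k)) := by
        refine (congrFun (congrFun h1 p.1) p.2).symm.trans ?_
        exact congrFun (congrFun (slice0_spec F I J Ds).hMm p.1) (fun k => I (p.2 k))
      change slice0 F I J Ds (F.P.mu p.1 p.2) ∈ BIJ F I J Ds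
      rw [h]
      exact entryMm_mem F I J Ds p.1 _
  exact key r (F.gen ▸ Subring.mem_top r)

/-- the retraction `Ds → BIJ` -/
def ret : Ds →+* BIJ F I J Ds :=
  IsLocalization.Away.lift (S := Ds) (sIJ F I J)
    (g := (slice0 F I J Ds).codRestrict (BIJ F I J Ds) (slice0_mem F I J Ds))
    (by
      have : (slice0 F I J Ds).codRestrict (BIJ F I J Ds) (slice0_mem F I J Ds) (sIJ F I J) = 1 :=
        Subtype.ext (slice0_s F I J Ds)
      rw [this]
      exact isUnit_one)

theorem ret_alg (r : F.R) : (ret F I J Ds (algebraMap F.R Ds r) : Ds) = slice0 F I J Ds r := by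
  rw [ret, IsLocalization.Away.lift_eq]
  rfl

theorem ret_algA (a : A) : ret F I J Ds (algebraMap A Ds a) = algebraMap A (BIJ F I J Ds) a := by
  apply Subtype.ext
  rw [IsScalarTower.algebraMap_apply A F.R Ds, ret_alg]
  refine (slice0_a F I J Ds a).trans ?_
  exact (IsScalarTower.algebraMap_apply A F.R Ds a).symm

/-- as an algebra map -/
def retA : Ds →ₐ[A] BIJ F I J Ds := { ret F I J Ds with commutes' := ret_algA F I J Ds }

theorem retA_gens {y : Ds} (hy : y ∈ gens F I J Ds) : (retA F I J Ds y : Ds) = y := by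
  obtain ⟨I', J', h⟩ := hy
  have h1 := congrArg (fun z => (ret F I J Ds z : Ds)) h
  have h2 : (ret F I J Ds y : Ds) * (ret F I J Ds (algebraMap F.R Ds (sIJ F I J)) : Ds) =
      (ret F I J Ds (algebraMap F.R Ds (sIJ F I' J')) : Ds) := by
    rw [← h1]
    simp
  rw [ret_alg, ret_alg, slice0_s, mul_one] at h2
  change (ret F I J Ds y : Ds) = y
  rw [h2]
  refine (isUnit_s F I J Ds).mul_right_cancel ?_
  rw [slice0_s', h]

/-- it is a retraction -/
theorem retA_coe (b : BIJ F I J Ds) : retA F I J Ds (b : Ds) = b := by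
  have h : ∀ y : Ds, y ∈ BIJ F I J Ds → ((BIJ F I J Ds).val.comp (retA F I J Ds)) y = (AlgHom.id A Ds) y := by
    intro y hy
    have hle : BIJ F I J Ds ≤ AlgHom.equalizer ((BIJ F I J Ds).val.comp (retA F I J Ds)) (AlgHom.id A Ds) := by
      refine Algebra.adjoin_le ?_
      intro y hy
      exact retA_gens F I J Ds hy
    exact hle hy
  exact Subtype.ext (h b b.2)

end Slice

end GPart

end Groth.Agent.ResProp.EF.K199
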