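import Groth.Agent.ResProp.EF.K199.GPart

/-!
# The `GL_r1 x GL_rm`-torsor `F.R[1/s_IJ] / B_IJ`, II: the coaction (S16912, G1 / P7, G-part; helper199)

* `rho_fix`: the coaction fixes `BIJ`;
* `ptsGal`: the point condition;
* `faithfullyFlat`: `BIJ → Ds` is faithfully flat, because `BIJ ⊗ O ≃ Ds`.
-/

set_option autoImplicit false
set_option linter.unusedSectionVars false

universe u

open Groth.Agent.Grpsch.AffGrpd Groth.Agent.ResProp.EF.K412 Groth.Agent.ResProp.EF.K62 TensorProduct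

noncomputable section

namespace Groth.Agent.ResProp.EF.K199

namespace GPart

variable {A B : Type u} [CommRing A] [CommRing B] {Lb : Type u} [CommRing Lb] [Algebra Lb A] {G : RGrpd A B}
  {D : Gen Lb G}

section Symm

variable {r1 rm : ℕ} {K : Type u} [CommRing K]

theorem gtrans_symm {X : Matrix (Fin r1) (Fin r1) K} {Xm : Matrix (Fin rm) (Fin rm) K} {P P' : FrPt D r1 rm K}
    (hX : IsUnit X.det) (hXm : IsUnit Xm.det) (h : IsGTrans X Xm P P') : IsGTrans X⁻¹ Xm⁻¹ P' P where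
  ha := h.ha.symm
  hM := by rw [h.hM, ← Matrix.mul_assoc, Matrix.nonsing_inv_mul _ hX, Matrix.one_mul]
  hMm := by rw [h.hMm, ← Matrix.mul_assoc, Matrix.nonsing_inv_mul _ hXm, Matrix.one_mul]
  hmu := by
    rw [hmu_iff]
    have h1 : tp D.m X * tp D.m X⁻¹ = 1 := by rw [← tp_mul, Matrix.mul_nonsing_inv _ hX, tp_one]
    calc P.mu * tp D.m X⁻¹ = Xm⁻¹ * (Xm * P.mu) * tp D.m X⁻¹ := by
          rw [← Matrix.mul_assoc, Matrix.nonsing_inv_mul _ hXm, Matrix.one_mul]
      _ = Xm⁻¹ * (P'.mu * tp D.m X) * tp D.m X⁻¹ := by rw [IsGTrans.mu_eq h]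
      _ = Xm⁻¹ * P'.mu := by rw [Matrix.mul_assoc, Matrix.mul_assoc, h1, Matrix.mul_one]

end Symm

variable {k : Type u} [Field k] {x : A →+* k} (F : FrRing D x)
  (I : Fin F.r1 → Fin D.n) (J : Fin F.rm → (Fin D.m → Fin D.n))
  (Ds : Type u) [CommRing Ds] [Algebra F.R Ds] [Algebra A Ds] [IsScalarTower A F.R Ds]
  [IsLocalization.Away (sIJ F I J) Ds]

section Maps

variable {T : Type u} [CommRing T]

include I J in
theorem slice_map (f : Ds →+* T) :
    ((F.P.map (f.comp (algebraMap F.R Ds))).M.submatrix id I)⁻¹ * (F.P.map (f.comp (algebraMap F.R Ds))).M =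
      (((F.P.map (algebraMap F.R Ds)).M.submatrix id I)⁻¹ * (F.P.map (algebraMap F.R Ds)).M).map f := by
  set P := F.P.map (algebraMap F.R Ds) with hP
  have hu := unitM F I J (isUnit_s F I J Ds)
  have hu' : IsUnit ((F.P.map (f.comp (algebraMap F.R Ds))).M.submatrix id I).det := by
    refine unitM F I J ?_
    exact (isUnit_s F I J Ds).map f
  have e1 : (F.P.map (f.comp (algebraMap F.R Ds))).M =
      (F.P.map (f.comp (algebraMap F.R Ds))).M.submatrix id I * (((P.M.submatrix id I)⁻¹ * P.M).map f) := by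
    have h1 : P.M = P.M.submatrix id I * ((P.M.submatrix id I)⁻¹ * P.M) := by
      rw [← Matrix.mul_assoc, Matrix.mul_nonsing_inv _ hu, Matrix.one_mul]
    have h2 := congrArg (fun Y => Matrix.map Y f) h1
    refine h2.trans ?_
    rw [Matrix.map_mul]
    rfl
  conv_lhs => rw [e1]
  rw [← Matrix.mul_assoc]
  have e2 : ((F.P.map (f.comp (algebraMap F.R Ds))).M.submatrix id I * (((P.M.submatrix id I)⁻¹ * P.M).map f)).submatrix
      id I = (F.P.map (f.comp (algebraMap F.R Ds))).M.submatrix id I := by rw [← e1]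
  rw [e2, Matrix.nonsing_inv_mul _ hu', Matrix.one_mul]

include I J in
theorem slicem_map (f : Ds →+* T) :
    ((F.P.map (f.comp (algebraMap F.R Ds))).Mm.submatrix id J)⁻¹ * (F.P.map (f.comp (algebraMap F.R Ds))).Mm =
      (((F.P.map (algebraMap F.R Ds)).Mm.submatrix id J)⁻¹ * (F.P.map (algebraMap F.R Ds)).Mm).map f := by
  set P := F.P.map (algebraMap F.R Ds) with hP
  have hu := unitMm F I J (isUnit_s F I J Ds)
  have hu' : IsUnit ((F.P.map (f.comp (algebraMap F.R Ds))).Mm.submatrix id J).det := by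
    refine unitMm F I J ?_
    exact (isUnit_s F I J Ds).map f
  have e1 : (F.P.map (f.comp (algebraMap F.R Ds))).Mm =
      (F.P.map (f.comp (algebraMap F.R Ds))).Mm.submatrix id J * (((P.Mm.submatrix id J)⁻¹ * P.Mm).map f) := by
    have h1 : P.Mm = P.Mm.submatrix id J * ((P.Mm.submatrix id J)⁻¹ * P.Mm) := by
      rw [← Matrix.mul_assoc, Matrix.mul_nonsing_inv _ hu, Matrix.one_mul]
    have h2 := congrArg (fun Y => Matrix.map Y f) h1
    refine h2.trans ?_
    rw [Matrix.map_mul]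
    rfl
  conv_lhs => rw [e1]
  rw [← Matrix.mul_assoc]
  have e2 : ((F.P.map (f.comp (algebraMap F.R Ds))).Mm.submatrix id J *
      (((P.Mm.submatrix id J)⁻¹ * P.Mm).map f)).submatrix id J =
      (F.P.map (f.comp (algebraMap F.R Ds))).Mm.submatrix id J := by rw [← e1]
  rw [e2, Matrix.nonsing_inv_mul _ hu', Matrix.one_mul]

end Maps

section Co

variable [Algebra Lb Ds] [IsScalarTower Lb F.R Ds] [IsScalarTower Lb A Ds]
  {O : Type u} [CommRing O] [Bialgebra Lb O] {X : Matrix (Fin F.r1) (Fin F.r1) O}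
  {Xm : Matrix (Fin F.rm) (Fin F.rm) O} (hX : IsMulMat Lb X) (hXm : IsMulMat Lb Xm)
  (ρs : Ds →ₐ[Lb] Ds ⊗[Lb] O)
  (hρs : ∀ r : F.R, ρs (algebraMap F.R Ds r) =
    Algebra.TensorProduct.map (IsScalarTower.toAlgHom Lb F.R Ds) (AlgHom.id Lb O) (rho F hX hXm r))

include hρs

theorem rho_A (a : A) : ρs (algebraMap A Ds a) = algebraMap A Ds a ⊗ₜ[Lb] (1 : O) := by
  rw [IsScalarTower.algebraMap_apply A F.R Ds, hρs, algebraMap_A, rho_a, Algebra.TensorProduct.map_tmul]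
  rfl

theorem rho_s (I' : Fin F.r1 → Fin D.n) (J' : Fin F.rm → (Fin D.m → Fin D.n)) :
    ρs (algebraMap F.R Ds (sIJ F I' J')) = algebraMap F.R Ds (sIJ F I' J') ⊗ₜ[Lb] chi F X Xm := by
  rw [hρs, rho_sIJ, Algebra.TensorProduct.map_tmul]
  rfl

/-- **the coaction fixes `BIJ`** -/
theorem rho_fix (b : BIJ F I J Ds) : ρs (b : Ds) = (b : Ds) ⊗ₜ[Lb] (1 : O) := by
  obtain ⟨y, hy⟩ := b
  change ρs y = y ⊗ₜ[Lb] (1 : O)
  refine Algebra.adjoin_induction (p := fun y _ => ρs y = y ⊗ₜ[Lb] (1 : O)) ?_ ?_ ?_ ?_ hy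
  · rintro y ⟨I', J', h⟩
    have h1 := congrArg ρs h
    rw [map_mul, rho_s F Ds hX hXm ρs hρs, rho_s F Ds hX hXm ρs hρs, ← h] at h1
    have h2 : IsUnit (algebraMap F.R Ds (sIJ F I J) ⊗ₜ[Lb] chi F X Xm) := by
      have e : algebraMap F.R Ds (sIJ F I J) ⊗ₜ[Lb] chi F X Xm =
          (Algebra.TensorProduct.includeLeft : Ds →ₐ[Lb] Ds ⊗[Lb] O) (algebraMap F.R Ds (sIJ F I J)) *
            (Algebra.TensorProduct.includeRight : O →ₐ[Lb] Ds ⊗[Lb] O) (chi F X Xm) := by simp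
      rw [e]
      exact ((isUnit_s F I J Ds).map _).mul ((isUnit_chi F hX hXm).map _)
    refine h2.mul_right_cancel ?_
    rw [h1, Algebra.TensorProduct.tmul_mul_tmul, one_mul]
  · intro a
    exact rho_A F Ds hX hXm ρs hρs a
  · intro y z _ _ hy hz
    rw [map_add, hy, hz, TensorProduct.add_tmul]
  · intro y z _ _ hy hz
    rw [map_mul, hy, hz, Algebra.TensorProduct.tmul_mul_tmul, one_mul]

/-- the map `F.R ⊗ O → T` of a pair `(f, γ)` -/
theorem pair_point {T : Type u} [CommRing T] [Algebra Lb T] (f : Ds →ₐ[Lb] T) (γ : O →ₐ[Lb] T) :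
    IsGTrans (X.map γ).transpose (Xm.map γ).transpose (F.P.map ((f : Ds →+* T).comp (algebraMap F.R Ds)))
      (F.P.map (((pair f γ : Ds ⊗[Lb] O →ₐ[Lb] T) : Ds ⊗[Lb] O →+* T).comp ((ρs : Ds →+* Ds ⊗[Lb] O).comp
        (algebraMap F.R Ds)))) := by
  set F2 : F.R ⊗[Lb] O →ₐ[Lb] T := (pair f γ).comp
    (Algebra.TensorProduct.map (IsScalarTower.toAlgHom Lb F.R Ds) (AlgHom.id Lb O)) with hF2
  have m := isGTrans_points F hX hXm (F2 : F.R ⊗[Lb] O →+* T)
  have a1 : (F2 : F.R ⊗[Lb] O →+* T).comp (inl Lb F.R O) = (f : Ds →+* T).comp (algebraMap F.R Ds) := by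
    ext r
    change F2 (r ⊗ₜ[Lb] (1 : O)) = f (algebraMap F.R Ds r)
    simp [hF2, pair]
  have a2 : (F2 : F.R ⊗[Lb] O →+* T).comp (inr Lb F.R O) = (γ : O →+* T) := by
    ext o
    change F2 ((1 : F.R) ⊗ₜ[Lb] o) = γ o
    simp [hF2, pair]
  have a3 : (F2 : F.R ⊗[Lb] O →+* T).comp (rho F hX hXm : F.R →+* F.R ⊗[Lb] O) =
      ((pair f γ : Ds ⊗[Lb] O →ₐ[Lb] T) : Ds ⊗[Lb] O →+* T).comp ((ρs : Ds →+* Ds ⊗[Lb] O).comp
        (algebraMap F.R Ds)) := by
    ext r
    exact (congrArg (pair f γ) (hρs r)).symm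
  rw [a1, a2, a3] at m
  exact m

/-- **the point condition** -/
theorem ptsGal (hOG : IsUnivGL Lb X Xm) : PtsGal (BIJ F I J Ds) ρs := by
  intro T _ _ f f' hff
  have hu : ∀ g : Ds →ₐ[Lb] T, IsUnit (((g : Ds →+* T).comp (algebraMap F.R Ds)) (sIJ F I J)) := fun g =>
    (isUnit_s F I J Ds).map (g : Ds →+* T)
  have ha : (F.P.map ((f' : Ds →+* T).comp (algebraMap F.R Ds))).a =
      (F.P.map ((f : Ds →+* T).comp (algebraMap F.R Ds))).a := by
    ext a
    have h1 := hff (algebraMap A (BIJ F I J Ds) a)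
    have h2 : algebraMap (BIJ F I J Ds) Ds (algebraMap A (BIJ F I J Ds) a) = algebraMap F.R Ds (F.P.a a) :=
      IsScalarTower.algebraMap_apply A F.R Ds a
    rw [h2] at h1
    exact h1.symm
  have hM : ((F.P.map ((f' : Ds →+* T).comp (algebraMap F.R Ds))).M.submatrix id I)⁻¹ *
      (F.P.map ((f' : Ds →+* T).comp (algebraMap F.R Ds))).M =
      ((F.P.map ((f : Ds →+* T).comp (algebraMap F.R Ds))).M.submatrix id I)⁻¹ *
      (F.P.map ((f : Ds →+* T).comp (algebraMap F.R Ds))).M := by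
    rw [slice_map F I J Ds, slice_map F I J Ds]
    ext i j
    exact (hff ⟨_, entryM_mem F I J Ds i j⟩).symm
  have hMm : ((F.P.map ((f' : Ds →+* T).comp (algebraMap F.R Ds))).Mm.submatrix id J)⁻¹ *
      (F.P.map ((f' : Ds →+* T).comp (algebraMap F.R Ds))).Mm =
      ((F.P.map ((f : Ds →+* T).comp (algebraMap F.R Ds))).Mm.submatrix id J)⁻¹ *
      (F.P.map ((f : Ds →+* T).comp (algebraMap F.R Ds))).Mm := by
    rw [slicem_map F I J Ds, slicem_map F I J Ds]
    ext i j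
    exact (hff ⟨_, entryMm_mem F I J Ds i j⟩).symm
  have hg := gtrans_of_eq F I J (hu f) (hu f') ha hM hMm
  set X0 := (F.P.map ((f' : Ds →+* T).comp (algebraMap F.R Ds))).M.submatrix id I *
    ((F.P.map ((f : Ds →+* T).comp (algebraMap F.R Ds))).M.submatrix id I)⁻¹ with hX0
  set Xm0 := (F.P.map ((f' : Ds →+* T).comp (algebraMap F.R Ds))).Mm.submatrix id J *
    ((F.P.map ((f : Ds →+* T).comp (algebraMap F.R Ds))).Mm.submatrix id J)⁻¹ with hXm0
  have uX0 : IsUnit X0.transpose.det := by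
    rw [Matrix.det_transpose, hX0, Matrix.det_mul]
    exact (unitM F I J (hu f')).mul (Matrix.isUnit_nonsing_inv_det _ (unitM F I J (hu f)))
  have uXm0 : IsUnit Xm0.transpose.det := by
    rw [Matrix.det_transpose, hXm0, Matrix.det_mul]
    exact (unitMm F I J (hu f')).mul (Matrix.isUnit_nonsing_inv_det _ (unitMm F I J (hu f)))
  obtain ⟨γ, ⟨g1, g2⟩, gu⟩ := hOG T X0.transpose Xm0.transpose uX0 uXm0
  refine ⟨γ, ?_, ?_⟩
  · have m := pair_point F Ds hX hXm ρs hρs f γ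
    rw [g1, g2, Matrix.transpose_transpose, Matrix.transpose_transpose] at m
    have uX : IsUnit X0 := by
      rw [Matrix.isUnit_iff_isUnit_det, ← Matrix.det_transpose]
      exact uX0
    have e := hom_ext F (IsGTrans.unique uX hg m)
    have e2 : (f' : Ds →+* T) = ((pair f γ : Ds ⊗[Lb] O →ₐ[Lb] T) : Ds ⊗[Lb] O →+* T).comp
        (ρs : Ds →+* Ds ⊗[Lb] O) := IsLocalization.ringHom_ext (Submonoid.powers (sIJ F I J)) e
    exact fun d => RingHom.congr_fun e2 d
  · intro γ' hγ'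
    have m := pair_point F Ds hX hXm ρs hρs f γ'
    have e : ((pair f γ' : Ds ⊗[Lb] O →ₐ[Lb] T) : Ds ⊗[Lb] O →+* T).comp ((ρs : Ds →+* Ds ⊗[Lb] O).comp
        (algebraMap F.R Ds)) = (f' : Ds →+* T).comp (algebraMap F.R Ds) := by
      ext r
      exact (hγ' _).symm
    rw [e] at m
    refine gu γ' ⟨?_, ?_⟩
    · rw [hX0, gtrans_slice F I m, Matrix.mul_assoc, Matrix.mul_nonsing_inv _ (unitM F I J (hu f)), Matrix.mul_one,
        Matrix.transpose_transpose]
    · rw [hXm0, gtrans_slicem F J m, Matrix.mul_assoc, Matrix.mul_nonsing_inv _ (unitMm F I J (hu f)), Matrix.mul_one,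
        Matrix.transpose_transpose]

end Co

end GPart

end Groth.Agent.ResProp.EF.K199
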