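import Groth.Agent.ResProp.EF.K199.GPart2

/-!
# The `GL_r1 x GL_rm`-torsor `F.R[1/s_IJ] / B_IJ`, III: `BIJ ⊗ O ≃ Ds` (S16912, G1 / P7, G-part; helper199)
-/

set_option autoImplicit false
set_option linter.unusedSectionVars false

universe u

open Groth.Agent.Grpsch.AffGrpd Groth.Agent.ResProp.EF.K412 Groth.Agent.ResProp.EF.K62 TensorProduct

noncomputable section

namespace Groth.Agent.ResProp.EF.K199

namespace GPart

variable {A B : Type u} [CommRing A] [CommRing B] {Lb : Type u} [CommRing Lb] [Algebra Lb A] {G : RGrpd A B}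
  {D : Gen Lb G} {k : Type u} [Field k] {x : A →+* k} (F : FrRing D x)
  (I : Fin F.r1 → Fin D.n) (J : Fin F.rm → (Fin D.m → Fin D.n))
  (Ds : Type u) [CommRing Ds] [Algebra F.R Ds] [Algebra A Ds] [IsScalarTower A F.R Ds]
  [IsLocalization.Away (sIJ F I J) Ds] [Algebra Lb Ds] [IsScalarTower Lb F.R Ds] [IsScalarTower Lb A Ds]

instance : IsScalarTower Lb A (BIJ F I J Ds) := IsScalarTower.of_algebraMap_eq fun r =>
  Subtype.ext (IsScalarTower.algebraMap_apply Lb A Ds r)

instance : IsScalarTower Lb (BIJ F I J Ds) Ds := IsScalarTower.of_algebraMap_eq fun _ => rfl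

/-- the retraction over `Lb` -/
def retL : Ds →ₐ[Lb] BIJ F I J Ds := (retA F I J Ds).restrictScalars Lb

theorem retL_alg (r : F.R) : (retL F I J Ds (algebraMap F.R Ds r) : Ds) = slice0 F I J Ds r := ret_alg F I J Ds r

theorem retL_coe (b : BIJ F I J Ds) : retL F I J Ds (b : Ds) = b := retA_coe F I J Ds b

variable {O : Type u} [CommRing O] [Bialgebra Lb O] {X : Matrix (Fin F.r1) (Fin F.r1) O}
  {Xm : Matrix (Fin F.rm) (Fin F.rm) O}

section J

variable (hOG : IsUnivGL Lb X Xm)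

include I J hOG

theorem exists_jj : ∃ γ : O →ₐ[Lb] Ds, X.map γ = ((F.P.map (algebraMap F.R Ds)).M.submatrix id I).transpose ∧
    Xm.map γ = ((F.P.map (algebraMap F.R Ds)).Mm.submatrix id J).transpose :=
  (hOG Ds _ _ (by rw [Matrix.det_transpose]; exact unitM F I J (isUnit_s F I J Ds))
    (by rw [Matrix.det_transpose]; exact unitMm F I J (isUnit_s F I J Ds))).exists

/-- the point `(M_I, Mm_J)` of the group -/
def jj : O →ₐ[Lb] Ds := (exists_jj F I J Ds hOG).choose

theorem jj_X : X.map (jj F I J Ds hOG) = ((F.P.map (algebraMap F.R Ds)).M.submatrix id I).transpose :=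
  (exists_jj F I J Ds hOG).choose_spec.1

theorem jj_Xm : Xm.map (jj F I J Ds hOG) = ((F.P.map (algebraMap F.R Ds)).Mm.submatrix id J).transpose :=
  (exists_jj F I J Ds hOG).choose_spec.2

/-- `BIJ ⊗ O → Ds` -/
def Phi : BIJ F I J Ds ⊗[Lb] O →ₐ[BIJ F I J Ds] Ds :=
  Algebra.TensorProduct.lift (Algebra.ofId (BIJ F I J Ds) Ds) (jj F I J Ds hOG) (fun _ _ => Commute.all _ _)

theorem Phi_tmul (b : BIJ F I J Ds) (o : O) : Phi F I J Ds hOG (b ⊗ₜ[Lb] o) = (b : Ds) * jj F I J Ds hOG o := by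
  rw [Phi, Algebra.TensorProduct.lift_tmul]
  rfl

end J

variable (hX : IsMulMat Lb X) (hXm : IsMulMat Lb Xm)
  (ρs : Ds →ₐ[Lb] Ds ⊗[Lb] O)
  (hρs : ∀ r : F.R, ρs (algebraMap F.R Ds r) =
    Algebra.TensorProduct.map (IsScalarTower.toAlgHom Lb F.R Ds) (AlgHom.id Lb O) (rho F hX hXm r))

/-- `Ds → BIJ ⊗ O` -/
def Psi : Ds →ₐ[Lb] BIJ F I J Ds ⊗[Lb] O :=
  (Algebra.TensorProduct.map (retL F I J Ds) (AlgHom.id Lb O)).comp ρs

include I J hρs

theorem Phi_Psi (hOG : IsUnivGL Lb X Xm) (d : Ds) : Phi F I J Ds hOG (Psi F I J Ds ρs d) = d := by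
  -- the pair
  set f : Ds →ₐ[Lb] Ds := ((BIJ F I J Ds).val.restrictScalars Lb).comp (retL F I J Ds) with hf
  have e0 : ∀ z : Ds ⊗[Lb] O, Phi F I J Ds hOG (Algebra.TensorProduct.map (retL F I J Ds) (AlgHom.id Lb O) z) =
      pair f (jj F I J Ds hOG) z := by
    intro z
    induction z using TensorProduct.induction_on with
    | zero => simp only [map_zero]
    | add x y hx hy => simp only [map_add, hx, hy]
    | tmul a o =>
      rw [Algebra.TensorProduct.map_tmul, Phi_tmul, Algebra.TensorProduct.lift_tmul]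
      rfl
  have m := pair_point F Ds hX hXm ρs hρs f (jj F I J Ds hOG)
  rw [jj_X, jj_Xm, Matrix.transpose_transpose, Matrix.transpose_transpose] at m
  have e1 : (f : Ds →+* Ds).comp (algebraMap F.R Ds) = slice0 F I J Ds := by
    ext r
    exact retL_alg F I J Ds r
  rw [e1] at m
  have h1 := gtrans_symm (Matrix.isUnit_nonsing_inv_det _ (unitM F I J (isUnit_s F I J Ds)))
    (Matrix.isUnit_nonsing_inv_det _ (unitMm F I J (isUnit_s F I J Ds))) (slice0_spec F I J Ds)
  rw [Matrix.nonsing_inv_nonsing_inv _ (unitM F I J (isUnit_s F I J Ds)),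
    Matrix.nonsing_inv_nonsing_inv _ (unitMm F I J (isUnit_s F I J Ds))] at h1
  have uX : IsUnit ((F.P.map (algebraMap F.R Ds)).M.submatrix id I) :=
    (Matrix.isUnit_iff_isUnit_det _).2 (unitM F I J (isUnit_s F I J Ds))
  have e := hom_ext F (IsGTrans.unique uX m h1)
  have e2 : ((pair f (jj F I J Ds hOG) : Ds ⊗[Lb] O →ₐ[Lb] Ds) : Ds ⊗[Lb] O →+* Ds).comp
      (ρs : Ds →+* Ds ⊗[Lb] O) = RingHom.id Ds :=
    IsLocalization.ringHom_ext (Submonoid.powers (sIJ F I J)) (by rw [RingHom.id_comp]; exact e)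
  rw [Psi, AlgHom.comp_apply, e0]
  exact RingHom.congr_fun e2 d

theorem Psi_coe (b : BIJ F I J Ds) : Psi F I J Ds ρs (b : Ds) = b ⊗ₜ[Lb] (1 : O) := by
  rw [Psi, AlgHom.comp_apply, rho_fix F I J Ds hX hXm ρs hρs, Algebra.TensorProduct.map_tmul, retL_coe]
  rfl

theorem Psi_jj (hOG : IsUnivGL Lb X Xm) (o : O) : Psi F I J Ds ρs (jj F I J Ds hOG o) = 1 ⊗ₜ[Lb] o := by
  have key : (Psi F I J Ds ρs).comp (jj F I J Ds hOG) =
      (Algebra.TensorProduct.includeRight : O →ₐ[Lb] BIJ F I J Ds ⊗[Lb] O) := by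
    refine (hOG (BIJ F I J Ds ⊗[Lb] O) (X.map (Algebra.TensorProduct.includeRight : O →ₐ[Lb] BIJ F I J Ds ⊗[Lb] O))
      (Xm.map (Algebra.TensorProduct.includeRight : O →ₐ[Lb] BIJ F I J Ds ⊗[Lb] O)) ?_ ?_).unique ⟨?_, ?_⟩ ⟨rfl, rfl⟩
    · have := hX.unit.map (Algebra.TensorProduct.includeRight : O →ₐ[Lb] BIJ F I J Ds ⊗[Lb] O)
      rwa [AlgHom.map_det, AlgHom.mapMatrix_apply] at this
    · have := hXm.unit.map (Algebra.TensorProduct.includeRight : O →ₐ[Lb] BIJ F I J Ds ⊗[Lb] O)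
      rwa [AlgHom.map_det, AlgHom.mapMatrix_apply] at this
    · ext c b
      have h1 : jj F I J Ds hOG (X c b) = algebraMap F.R Ds (F.P.M b (I c)) :=
        congrFun (congrFun (jj_X F I J Ds hOG) c) b
      change Psi F I J Ds ρs (jj F I J Ds hOG (X c b)) = 1 ⊗ₜ[Lb] X c b
      rw [h1, Psi, AlgHom.comp_apply, hρs, rho_M, map_sum, map_sum]
      have h2 : ∀ e : Fin F.r1, retL F I J Ds (algebraMap F.R Ds (F.P.M e (I c))) =
          if e = c then 1 else 0 := by
        intro e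
        apply Subtype.ext
        rw [retL_alg]
        have := congrFun (congrFun (slice0_MI F I J Ds) e) c
        refine Eq.trans this ?_
        rw [Matrix.one_apply]
        split_ifs <;> rfl
      have h3 : ∀ e : Fin F.r1, Algebra.TensorProduct.map (retL F I J Ds) (AlgHom.id Lb O)
          (Algebra.TensorProduct.map (IsScalarTower.toAlgHom Lb F.R Ds) (AlgHom.id Lb O)
            (F.P.M e (I c) ⊗ₜ[Lb] X e b)) = if e = c then (1 : BIJ F I J Ds) ⊗ₜ[Lb] X e b else 0 := by
        intro e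
        rw [Algebra.TensorProduct.map_tmul, Algebra.TensorProduct.map_tmul]
        change retL F I J Ds (algebraMap F.R Ds (F.P.M e (I c))) ⊗ₜ[Lb] X e b = _
        rw [h2]
        split_ifs
        · rfl
        · exact TensorProduct.zero_tmul _ _
      rw [Finset.sum_congr rfl fun e _ => h3 e, Finset.sum_ite_eq']
      simp
    · ext c b
      have h1 : jj F I J Ds hOG (Xm c b) = algebraMap F.R Ds (F.P.Mm b (J c)) :=
        congrFun (congrFun (jj_Xm F I J Ds hOG) c) b
      change Psi F I J Ds ρs (jj F I J Ds hOG (Xm c b)) = 1 ⊗ₜ[Lb] Xm c b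
      rw [h1, Psi, AlgHom.comp_apply, hρs, rho_Mm, map_sum, map_sum]
      have h2 : ∀ e : Fin F.rm, retL F I J Ds (algebraMap F.R Ds (F.P.Mm e (J c))) =
          if e = c then 1 else 0 := by
        intro e
        apply Subtype.ext
        rw [retL_alg]
        have := congrFun (congrFun (slice0_MmJ F I J Ds) e) c
        refine Eq.trans this ?_
        rw [Matrix.one_apply]
        split_ifs <;> rfl
      have h3 : ∀ e : Fin F.rm, Algebra.TensorProduct.map (retL F I J Ds) (AlgHom.id Lb O)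
          (Algebra.TensorProduct.map (IsScalarTower.toAlgHom Lb F.R Ds) (AlgHom.id Lb O)
            (F.P.Mm e (J c) ⊗ₜ[Lb] Xm e b)) = if e = c then (1 : BIJ F I J Ds) ⊗ₜ[Lb] Xm e b else 0 := by
        intro e
        rw [Algebra.TensorProduct.map_tmul, Algebra.TensorProduct.map_tmul]
        change retL F I J Ds (algebraMap F.R Ds (F.P.Mm e (J c))) ⊗ₜ[Lb] Xm e b = _
        rw [h2]
        split_ifs
        · rfl
        · exact TensorProduct.zero_tmul _ _
      rw [Finset.sum_congr rfl fun e _ => h3 e, Finset.sum_ite_eq']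
      simp
  exact DFunLike.congr_fun key o

theorem Psi_Phi (hOG : IsUnivGL Lb X Xm) (z : BIJ F I J Ds ⊗[Lb] O) : Psi F I J Ds ρs (Phi F I J Ds hOG z) = z := by
  induction z using TensorProduct.induction_on with
  | zero => simp only [map_zero]
  | add x y hx hy => simp only [map_add, hx, hy]
  | tmul b o =>
    rw [Phi_tmul, map_mul, Psi_coe F I J Ds hX hXm ρs hρs, Psi_jj F I J Ds hX hXm ρs hρs,
      Algebra.TensorProduct.tmul_mul_tmul, one_mul, mul_one]

theorem Phi_bijective (hOG : IsUnivGL Lb X Xm) : Function.Bijective (Phi F I J Ds hOG) :=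
  ⟨Function.LeftInverse.injective (Psi_Phi F I J Ds hX hXm ρs hρs hOG),
    Function.RightInverse.surjective (Phi_Psi F I J Ds hX hXm ρs hρs hOG)⟩

/-- **`BIJ → Ds` is faithfully flat** -/
theorem faithfullyFlat (hOG : IsUnivGL Lb X Xm) [Module.FaithfullyFlat Lb O] :
    Module.FaithfullyFlat (BIJ F I J Ds) Ds :=
  Module.FaithfullyFlat.of_linearEquiv _ _
    (LinearEquiv.ofBijective (Phi F I J Ds hOG).toLinearMap (Phi_bijective F I J Ds hX hXm ρs hρs hOG)).symm

end GPart

end Groth.Agent.ResProp.EF.K199
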