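import Groth.Agent.ResProp.EF.K83.FinDatum

/-!
# Hopf-Galois extensions by points (S16912, G1 / TORSOR; helper199)

`can_bijective`: if for all points `f, f'` of `D` which agree on `B` there is exactly one point `h` of the group with
`f' = f · h`, then `D ⊗[B] D → D ⊗[R] A`, `a ⊗ b ↦ (a ⊗ 1) ρ(b)`, is bijective.
-/

set_option autoImplicit false

universe u

open TensorProduct

noncomputable section

namespace Groth.Agent.ResProp.EF.K199

section Gal

variable {R A D B : Type u} [CommRing R] [CommRing A] [Algebra R A] [CommRing D] [Algebra R D] [CommRing B]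
  [Algebra R B] [Algebra B D] [IsScalarTower R B D]

/-- `ρ` as a map of `B`-algebras -/
def rhoB (ρ : D →ₐ[R] D ⊗[R] A) (hρ : ∀ b : B, ρ (algebraMap B D b) = algebraMap B D b ⊗ₜ[R] (1 : A)) :
    D →ₐ[B] D ⊗[R] A :=
  { (ρ : D →+* D ⊗[R] A) with
    commutes' := fun b => hρ b }

@[simp] lemma rhoB_apply (ρ : D →ₐ[R] D ⊗[R] A)
    (hρ : ∀ b : B, ρ (algebraMap B D b) = algebraMap B D b ⊗ₜ[R] (1 : A)) (d : D) : rhoB ρ hρ d = ρ d := rfl

/-- the canonical map, as a map of `B`-algebras -/
def canB (ρ : D →ₐ[R] D ⊗[R] A) (hρ : ∀ b : B, ρ (algebraMap B D b) = algebraMap B D b ⊗ₜ[R] (1 : A)) :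
    D ⊗[B] D →ₐ[B] D ⊗[R] A :=
  Algebra.TensorProduct.lift (Algebra.TensorProduct.includeLeft : D →ₐ[B] D ⊗[R] A) (rhoB ρ hρ)
    (fun _ _ => Commute.all _ _)

lemma canB_tmul (ρ : D →ₐ[R] D ⊗[R] A)
    (hρ : ∀ b : B, ρ (algebraMap B D b) = algebraMap B D b ⊗ₜ[R] (1 : A)) (a b : D) :
    canB ρ hρ (a ⊗ₜ[B] b) = (a ⊗ₜ[R] (1 : A)) * ρ b := by
  simp [canB]

/-- `f · h` on `ρ(d)` -/
abbrev pair {T : Type u} [CommRing T] [Algebra R T] (f : D →ₐ[R] T) (h : A →ₐ[R] T) : D ⊗[R] A →ₐ[R] T :=
  Algebra.TensorProduct.lift f h (fun _ _ => Commute.all _ _)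

theorem canB_bijective (ρ : D →ₐ[R] D ⊗[R] A)
    (hρ : ∀ b : B, ρ (algebraMap B D b) = algebraMap B D b ⊗ₜ[R] (1 : A))
    (H : ∀ (T : Type u) [CommRing T] [Algebra R T] (f f' : D →ₐ[R] T),
      (∀ b : B, f (algebraMap B D b) = f' (algebraMap B D b)) →
      ∃! h : A →ₐ[R] T, ∀ d, f' d = pair f h (ρ d)) :
    Function.Bijective (canB ρ hρ) := by
  -- the two inclusions
  let f : D →ₐ[R] D ⊗[B] D := (Algebra.TensorProduct.includeLeft : D →ₐ[B] D ⊗[B] D).restrictScalars R
  let f' : D →ₐ[R] D ⊗[B] D := (Algebra.TensorProduct.includeRight : D →ₐ[B] D ⊗[B] D).restrictScalars R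
  have hff : ∀ b : B, f (algebraMap B D b) = f' (algebraMap B D b) := by
    intro b
    change (algebraMap B D b) ⊗ₜ[B] (1 : D) = (1 : D) ⊗ₜ[B] (algebraMap B D b)
    rw [Algebra.algebraMap_eq_smul_one, TensorProduct.smul_tmul]
  obtain ⟨h, hh, -⟩ := H (D ⊗[B] D) f f' hff
  have hh : ∀ d, f' d = pair f h (ρ d) := hh
  let canR : D ⊗[B] D →ₐ[R] D ⊗[R] A := (canB ρ hρ).restrictScalars R
  have hc1 : ∀ a : D, canR (f a) = a ⊗ₜ[R] (1 : A) := by
    intro a
    change canB ρ hρ (a ⊗ₜ[B] (1 : D)) = _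
    rw [canB_tmul]; simp
  have hc2 : ∀ a : D, canR (f' a) = ρ a := by
    intro a
    change canB ρ hρ ((1 : D) ⊗ₜ[B] a) = _
    rw [canB_tmul]
    change (1 : D ⊗[R] A) * ρ a = ρ a
    rw [one_mul]
  have h1 : ∀ z : D ⊗[B] D, pair f h (canR z) = z := by
    intro z
    induction z using TensorProduct.induction_on with
    | zero => simp
    | add x y hx hy => rw [map_add, map_add, hx, hy]
    | tmul a b =>
      have : a ⊗ₜ[B] b = f a * f' b := by
        change _ = (a ⊗ₜ[B] (1 : D)) * ((1 : D) ⊗ₜ[B] b)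
        simp
      rw [this, map_mul, map_mul, hc1, hc2, ← hh]
      congr 1
      simp [pair]
  -- the other composition, by uniqueness
  have hu : canR.comp h = (Algebra.TensorProduct.includeRight : A →ₐ[R] D ⊗[R] A) := by
    obtain ⟨h0, -, hu0⟩ := H (D ⊗[R] A) (Algebra.TensorProduct.includeLeft : D →ₐ[R] D ⊗[R] A) ρ
      (fun b => (hρ b).symm)
    have e1 : canR.comp h = h0 := by
      refine hu0 _ (fun d => ?_)
      have : pair (Algebra.TensorProduct.includeLeft : D →ₐ[R] D ⊗[R] A) (canR.comp h) =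
          canR.comp (pair f h) := by
        apply Algebra.TensorProduct.ext'
        intro a b
        simp only [pair, Algebra.TensorProduct.lift_tmul, AlgHom.comp_apply, map_mul]
        rw [hc1]
        rfl
      rw [this, AlgHom.comp_apply, ← hh, hc2]
    have e2 : (Algebra.TensorProduct.includeRight : A →ₐ[R] D ⊗[R] A) = h0 := by
      refine hu0 _ (fun d => ?_)
      have : pair (Algebra.TensorProduct.includeLeft : D →ₐ[R] D ⊗[R] A)
          (Algebra.TensorProduct.includeRight : A →ₐ[R] D ⊗[R] A) = AlgHom.id R _ := by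
        apply Algebra.TensorProduct.ext'
        intro a b
        simp [pair]
      rw [this]; rfl
    rw [e1, e2]
  have h2 : ∀ z : D ⊗[R] A, canR (pair f h z) = z := by
    intro z
    induction z using TensorProduct.induction_on with
    | zero => simp
    | add x y hx hy => rw [map_add, map_add, hx, hy]
    | tmul a b =>
      simp only [pair, Algebra.TensorProduct.lift_tmul, map_mul]
      rw [hc1]
      have : canR (h b) = (1 : D) ⊗ₜ[R] b := by
        have := DFunLike.congr_fun hu b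
        simpa using this
      rw [this]
      simp
  exact ⟨fun x y hxy => by
      have := congrArg (pair f h) (show canR x = canR y from hxy)
      rwa [h1, h1] at this, fun z => ⟨pair f h z, h2 z⟩⟩

/-- **`GalLoc` from points**: it is enough that `B → D_s` is faithfully flat, `ρ` fixes `B`, and that two points of `D_s`
equal on `B` differ by exactly one point of the group. -/
def galLoc {R A D : Type u} [CommRing R] [CommRing A] [HopfAlgebra R A] [CommRing D] [Algebra R D] {c : K83.CoAlg R A D}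
    {s : D} (Ds : Type u) [CommRing Ds] [Algebra R Ds] [Algebra D Ds] [IsScalarTower R D Ds] [IsLocalization.Away s Ds]
    (cs : K83.CoAlg R A Ds)
    (compat : ∀ x : D, cs.ρ (algebraMap D Ds x) =
      Algebra.TensorProduct.map (IsScalarTower.toAlgHom R D Ds) (AlgHom.id R A) (c.ρ x))
    (B : Type u) [CommRing B] [Algebra R B] [Algebra B Ds] [IsScalarTower R B Ds] [Module.FaithfullyFlat B Ds]
    (hρ : ∀ b : B, cs.ρ (algebraMap B Ds b) = algebraMap B Ds b ⊗ₜ[R] (1 : A))
    (H : ∀ (T : Type u) [CommRing T] [Algebra R T] (f f' : Ds →ₐ[R] T),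
      (∀ b : B, f (algebraMap B Ds b) = f' (algebraMap B Ds b)) →
      ∃! h : A →ₐ[R] T, ∀ d, f' d = pair f h (cs.ρ d)) : K83.GalLoc c s where
  Ds := Ds
  cs := cs
  compat := compat
  B := B
  can := ((canB cs.ρ hρ).restrictScalars R).toLinearMap
  can_tmul a b := canB_tmul cs.ρ hρ a b
  can_bij := canB_bijective cs.ρ hρ H

end Gal

end Groth.Agent.ResProp.EF.K199
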