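import Groth.Agent.ResProp.EF.K199.GalPts
import Groth.Agent.ResProp.EF.K58.Frame

/-!
# The torsor property on points (S16912, G1 / TORSOR; helper199)

* `PtsGal B ρ`: two points of `D` equal on `B` differ by exactly one point of the group.
* `ptsGal_minor`: `D` generated by framed matrices `M, Mm, mu` with `M_I, Mm_J` invertible, coaction `M ↦ X M`,
  `Mm ↦ Xm Mm`, the entries of `M_I⁻¹ M`, `Mm_J⁻¹ Mm` in `B`.
* `ptsGal_frame`: from `D` to the frame algebra `Fr i₀ φ` over `D`, coaction `g ↦ Rᵀ g S`.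
-/

set_option autoImplicit false

universe u

open TensorProduct

noncomputable section

namespace Groth.Agent.ResProp.EF.K199

/-- two points of `D` which are equal on `B` differ by exactly one point of the group -/
def PtsGal {R A D : Type u} (B : Type u) [CommRing R] [CommRing A] [Algebra R A] [CommRing D] [Algebra R D] [CommRing B]
    [Algebra B D] (ρ : D →ₐ[R] D ⊗[R] A) : Prop :=
  ∀ (T : Type u) [CommRing T] [Algebra R T] (f f' : D →ₐ[R] T),
    (∀ b : B, f (algebraMap B D b) = f' (algebraMap B D b)) → ∃! h : A →ₐ[R] T, ∀ d, f' d = pair f h (ρ d)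

/-- Kronecker powers of an invertible matrix can be cancelled -/
lemma kron_cancel {T : Type*} [CommRing T] {r : Type*} [Fintype r] [DecidableEq r] {m : ℕ} (P : Matrix r r T)
    (hP : IsUnit P.det) (u v : (Fin m → r) → T)
    (h : ∀ K : Fin m → r, ∑ Q, u Q * ∏ k, P (Q k) (K k) = ∑ Q, v Q * ∏ k, P (Q k) (K k)) : u = v := by
  have key : ∀ (w : (Fin m → r) → T) (L : Fin m → r),
      ∑ K : Fin m → r, (∑ Q, w Q * ∏ k, P (Q k) (K k)) * ∏ k, P⁻¹ (K k) (L k) = w L := by
    intro w L
    have h1 : ∀ Q : Fin m → r, ∑ K : Fin m → r, (∏ k, P (Q k) (K k)) * ∏ k, P⁻¹ (K k) (L k) =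
        if Q = L then 1 else 0 := by
      intro Q
      have : ∑ K : Fin m → r, (∏ k, P (Q k) (K k)) * ∏ k, P⁻¹ (K k) (L k) =
          ∏ k, ∑ a : r, P (Q k) a * P⁻¹ a (L k) := by
        rw [Finset.prod_univ_sum, Fintype.piFinset_univ]
        exact Finset.sum_congr rfl fun K _ => (Finset.prod_mul_distrib).symm
      rw [this]
      have h2 : ∀ k, ∑ a : r, P (Q k) a * P⁻¹ a (L k) = if Q k = L k then (1 : T) else 0 := by
        intro k
        rw [← Matrix.mul_apply, Matrix.mul_nonsing_inv P hP, Matrix.one_apply]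
      rw [Finset.prod_congr rfl fun k _ => h2 k]
      split_ifs with hQ
      · subst hQ; simp
      · obtain ⟨k, hk⟩ : ∃ k, Q k ≠ L k := by
          by_contra hcon
          push Not at hcon
          exact hQ (funext hcon)
        exact Finset.prod_eq_zero (Finset.mem_univ k) (if_neg hk)
    calc ∑ K : Fin m → r, (∑ Q, w Q * ∏ k, P (Q k) (K k)) * ∏ k, P⁻¹ (K k) (L k)
        = ∑ K : Fin m → r, ∑ Q, w Q * ((∏ k, P (Q k) (K k)) * ∏ k, P⁻¹ (K k) (L k)) := by
          refine Finset.sum_congr rfl fun K _ => ?_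
          rw [Finset.sum_mul]
          exact Finset.sum_congr rfl fun Q _ => by ring
      _ = ∑ Q, w Q * ∑ K : Fin m → r, ((∏ k, P (Q k) (K k)) * ∏ k, P⁻¹ (K k) (L k)) := by
          rw [Finset.sum_comm]
          exact Finset.sum_congr rfl fun Q _ => by rw [Finset.mul_sum]
      _ = w L := by
          simp only [h1, mul_ite, mul_one, mul_zero, Finset.sum_ite_eq', Finset.mem_univ, if_true]
  funext L
  rw [← key u L, ← key v L]
  exact Finset.sum_congr rfl fun K _ => by rw [h K]

section Minor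

variable {A OG D B : Type u} [CommRing A] [CommRing OG] [Algebra A OG] [CommRing D] [Algebra A D] [CommRing B]
  [Algebra B D]
  {r rm n : Type} {m : ℕ} [Fintype r] [DecidableEq r] [Fintype rm] [DecidableEq rm]
  (X : Matrix r r OG) (Xm : Matrix rm rm OG)
  (M : Matrix r n D) (Mm : Matrix rm (Fin m → n) D) (mu : Matrix rm (Fin m → r) D)
  (I : r → n) (J : rm → (Fin m → n))

/-- **the torsor property for the frames** -/
theorem ptsGal_minor (ρ : D →ₐ[A] D ⊗[A] OG)
    (hOG : ∀ (T : Type u) [CommRing T] [Algebra A T] (X0 : Matrix r r T) (Xm0 : Matrix rm rm T), IsUnit X0.det →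
      IsUnit Xm0.det → ∃! γ : OG →ₐ[A] T, X.map γ = X0 ∧ Xm.map γ = Xm0)
    (hM : ∀ b j, ρ (M b j) = ∑ c, M c j ⊗ₜ[A] X b c)
    (hMm : ∀ b j, ρ (Mm b j) = ∑ c, Mm c j ⊗ₜ[A] Xm b c)
    (hmu : ∀ b K, Mm b K = ∑ Q : Fin m → r, mu b Q * ∏ k, M (Q k) (K k))
    (gen : ∀ (T : Type u) [CommRing T] [Algebra A T] (f f' : D →ₐ[A] T), (∀ b j, f (M b j) = f' (M b j)) →
      (∀ b j, f (Mm b j) = f' (Mm b j)) → (∀ b j, f (mu b j) = f' (mu b j)) → f = f')
    (hI : IsUnit (M.submatrix id I).det) (hJ : IsUnit (Mm.submatrix id J).det)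
    (hB1 : ∀ i j, ∃ b : B, algebraMap B D b = ((M.submatrix id I)⁻¹ * M) i j)
    (hB2 : ∀ i j, ∃ b : B, algebraMap B D b = ((Mm.submatrix id J)⁻¹ * Mm) i j) :
    PtsGal B ρ := by
  intro T _ _ f f' hff
  -- images of the matrices
  have hu : ∀ (g : D →ₐ[A] T), IsUnit ((M.submatrix id I).map g).det := fun g => by
    have := hI.map g
    rwa [AlgHom.map_det, AlgHom.mapMatrix_apply] at this
  have hum : ∀ (g : D →ₐ[A] T), IsUnit ((Mm.submatrix id J).map g).det := fun g => by
    have := hJ.map g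
    rwa [AlgHom.map_det, AlgHom.mapMatrix_apply] at this
  have hN : ((M.submatrix id I)⁻¹ * M).map f = ((M.submatrix id I)⁻¹ * M).map f' := by
    ext i j
    obtain ⟨b, hb⟩ := hB1 i j
    rw [Matrix.map_apply, Matrix.map_apply, ← hb, hff]
  have hNm : ((Mm.submatrix id J)⁻¹ * Mm).map f = ((Mm.submatrix id J)⁻¹ * Mm).map f' := by
    ext i j
    obtain ⟨b, hb⟩ := hB2 i j
    rw [Matrix.map_apply, Matrix.map_apply, ← hb, hff]
  have eM : M = (M.submatrix id I) * ((M.submatrix id I)⁻¹ * M) := by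
    rw [← Matrix.mul_assoc, Matrix.mul_nonsing_inv _ hI, Matrix.one_mul]
  have eMm : Mm = (Mm.submatrix id J) * ((Mm.submatrix id J)⁻¹ * Mm) := by
    rw [← Matrix.mul_assoc, Matrix.mul_nonsing_inv _ hJ, Matrix.one_mul]
  have mm : ∀ (g : D →ₐ[A] T), M.map g = (M.submatrix id I).map g * ((M.submatrix id I)⁻¹ * M).map g := fun g => by
    conv_lhs => rw [eM]
    exact Matrix.map_mul (f := (g : D →+* T))
  have mmm : ∀ (g : D →ₐ[A] T), Mm.map g = (Mm.submatrix id J).map g * ((Mm.submatrix id J)⁻¹ * Mm).map g := fun g => by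
    conv_lhs => rw [eMm]
    exact Matrix.map_mul (f := (g : D →+* T))
  set X0 := (M.submatrix id I).map f' * ((M.submatrix id I).map f)⁻¹ with hX0
  set Xm0 := (Mm.submatrix id J).map f' * ((Mm.submatrix id J).map f)⁻¹ with hXm0
  have uX0 : IsUnit X0.det := by
    rw [hX0, Matrix.det_mul]
    exact (hu f').mul (Matrix.isUnit_nonsing_inv_det _ (hu f))
  have uXm0 : IsUnit Xm0.det := by
    rw [hXm0, Matrix.det_mul]
    exact (hum f').mul (Matrix.isUnit_nonsing_inv_det _ (hum f))
  have k1 : X0 * M.map f = M.map f' := by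
    rw [mm f, mm f', hX0, Matrix.mul_assoc, ← Matrix.mul_assoc (((M.submatrix id I).map f)⁻¹),
      Matrix.nonsing_inv_mul _ (hu f), Matrix.one_mul, hN]
  have k2 : Xm0 * Mm.map f = Mm.map f' := by
    rw [mmm f, mmm f', hXm0, Matrix.mul_assoc, ← Matrix.mul_assoc (((Mm.submatrix id J).map f)⁻¹),
      Matrix.nonsing_inv_mul _ (hum f), Matrix.one_mul, hNm]
  -- the effect of `f · γ` on the matrices
  have pM : ∀ (γ : OG →ₐ[A] T), M.map (fun d => pair f γ (ρ d)) = X.map γ * M.map f := by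
    intro γ
    ext b j
    rw [Matrix.map_apply, hM, map_sum, Matrix.mul_apply]
    exact Finset.sum_congr rfl fun c _ => by
      rw [Matrix.map_apply, Matrix.map_apply, pair, Algebra.TensorProduct.lift_tmul, mul_comm]
  have pMm : ∀ (γ : OG →ₐ[A] T), Mm.map (fun d => pair f γ (ρ d)) = Xm.map γ * Mm.map f := by
    intro γ
    ext b j
    rw [Matrix.map_apply, hMm, map_sum, Matrix.mul_apply]
    exact Finset.sum_congr rfl fun c _ => by
      rw [Matrix.map_apply, Matrix.map_apply, pair, Algebra.TensorProduct.lift_tmul, mul_comm]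
  obtain ⟨γ, ⟨g1, g2⟩, gu⟩ := hOG T X0 Xm0 uX0 uXm0
  refine ⟨γ, ?_, ?_⟩
  · -- existence
    let f2 : D →ₐ[A] T := (pair f γ).comp ρ
    have e1 : M.map f2 = M.map f' := by
      have := pM γ
      rw [g1, k1] at this
      exact this
    have e2 : Mm.map f2 = Mm.map f' := by
      have := pMm γ
      rw [g2, k2] at this
      exact this
    have e1' : ∀ b j, f2 (M b j) = f' (M b j) := fun b j => congrFun (congrFun e1 b) j
    have e2' : ∀ b j, f2 (Mm b j) = f' (Mm b j) := fun b j => congrFun (congrFun e2 b) j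
    have e3 : ∀ b, (fun Q => f2 (mu b Q)) = fun Q => f' (mu b Q) := by
      intro b
      refine kron_cancel ((M.submatrix id I).map f') (hu f') _ _ (fun K => ?_)
      have a1 : f' (Mm b (fun k => I (K k))) = ∑ Q : Fin m → r, f' (mu b Q) * ∏ k, ((M.submatrix id I).map f') (Q k) (K k) := by
        rw [hmu, map_sum]
        refine Finset.sum_congr rfl fun Q _ => ?_
        rw [map_mul, map_prod]
        rfl
      have a2 : f2 (Mm b (fun k => I (K k))) = ∑ Q : Fin m → r, f2 (mu b Q) * ∏ k, ((M.submatrix id I).map f') (Q k) (K k) := by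
        rw [hmu, map_sum]
        refine Finset.sum_congr rfl fun Q _ => ?_
        rw [map_mul, map_prod]
        congr 1
        exact Finset.prod_congr rfl fun k _ => e1' _ _
      rw [← a1, ← a2]
      exact e2' _ _
    have := gen T f2 f' e1' e2' (fun b j => congrFun (e3 b) j)
    intro d
    rw [← this]
    rfl
  · -- uniqueness
    intro γ' hγ'
    refine gu γ' ⟨?_, ?_⟩
    · have h1 : M.map f' = X.map γ' * M.map f := by
        rw [← pM γ']
        ext b j
        exact hγ' _
      have h2 : (M.submatrix id I).map f' = X.map γ' * (M.submatrix id I).map f := by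
        ext b j
        exact congrFun (congrFun h1 b) (I j)
      rw [hX0, h2, Matrix.mul_assoc, Matrix.mul_nonsing_inv _ (hu f), Matrix.mul_one]
    · have h1 : Mm.map f' = Xm.map γ' * Mm.map f := by
        rw [← pMm γ']
        ext b j
        exact hγ' _
      have h2 : (Mm.submatrix id J).map f' = Xm.map γ' * (Mm.submatrix id J).map f := by
        ext b j
        exact congrFun (congrFun h1 b) (J j)
      rw [hXm0, h2, Matrix.mul_assoc, Matrix.mul_nonsing_inv _ (hum f), Matrix.mul_one]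

end Minor

section Frame

open K58

variable {A OG O D B : Type u} [CommRing A] [CommRing OG] [Algebra A OG] [CommRing O] [Algebra A O] [CommRing D]
  [Algebra A D] [CommRing B] [Algebra B D] {n : Type} [Fintype n] [DecidableEq n] (i₀ : n) (φ : n → D)

/-- **the torsor property for the frame algebra** -/
theorem ptsGal_frame (ρ : D →ₐ[A] D ⊗[A] OG) (hD : PtsGal B ρ) (ι : OG →ₐ[A] O) (Rm : Matrix n n OG)
    (hRm : IsUnit Rm.det) (S : Matrix n n O)
    (hO : ∀ (T : Type u) [CommRing T] [Algebra A T] (γ : OG →ₐ[A] T) (S0 : Matrix n n T), IsUnit S0.det →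
      (∀ i, S0 i i₀ = (1 : Matrix n n T) i i₀) → ∃! h : O →ₐ[A] T, h.comp ι = γ ∧ S.map h = S0)
    (hφ : ∀ j, ρ (φ j) = ∑ i, φ i ⊗ₜ[A] Rm i j)
    (ρ2 : Fr i₀ φ →ₐ[A] Fr i₀ φ ⊗[A] O)
    (h2a : ∀ d : D, ρ2 (algebraMap D (Fr i₀ φ) d) =
      Algebra.TensorProduct.map (IsScalarTower.toAlgHom A D (Fr i₀ φ)) ι (ρ d))
    (h2g : ∀ i j, ρ2 (mat i₀ φ i j) = ∑ k, ∑ l, mat i₀ φ k l ⊗ₜ[A] (ι (Rm k i) * S l j))
    [Algebra B (Fr i₀ φ)] [IsScalarTower B D (Fr i₀ φ)] :
    PtsGal B ρ2 := by
  intro T _ _ f f' hff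
  let a : D →ₐ[A] Fr i₀ φ := IsScalarTower.toAlgHom A D (Fr i₀ φ)
  have hff' : ∀ b : B, (f.comp a) (algebraMap B D b) = (f'.comp a) (algebraMap B D b) := by
    intro b
    have := hff b
    rw [IsScalarTower.algebraMap_apply B D (Fr i₀ φ)] at this
    exact this
  obtain ⟨γ, hγ, γu⟩ := hD T (f.comp a) (f'.comp a) hff'
  have hγ : ∀ d, (f'.comp a) d = pair (f.comp a) γ (ρ d) := hγ
  have hu : ∀ g : Fr i₀ φ →ₐ[A] T, IsUnit ((mat i₀ φ).map g).det := fun g => by
    have := (isUnit_det_mat i₀ φ).map g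
    rwa [AlgHom.map_det, AlgHom.mapMatrix_apply] at this
  have huR : IsUnit ((Rm.map γ).transpose).det := by
    rw [Matrix.det_transpose]
    have := hRm.map γ
    rwa [AlgHom.map_det, AlgHom.mapMatrix_apply] at this
  -- effect of `f · h`
  have pa : ∀ (h : O →ₐ[A] T) (d : D), pair f h (ρ2 (algebraMap D (Fr i₀ φ) d)) = pair (f.comp a) (h.comp ι) (ρ d) := by
    intro h d
    rw [h2a]
    have : (pair f h).comp (Algebra.TensorProduct.map (IsScalarTower.toAlgHom A D (Fr i₀ φ)) ι) =
        pair (f.comp a) (h.comp ι) := by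
      apply Algebra.TensorProduct.ext'
      intro x y
      simp [pair, a]
    exact DFunLike.congr_fun this (ρ d)
  have pg : ∀ (h : O →ₐ[A] T), (mat i₀ φ).map (fun d => pair f h (ρ2 d)) =
      ((Rm.map (h.comp ι)).transpose * (mat i₀ φ).map f) * S.map h := by
    intro h
    ext i j
    rw [Matrix.map_apply, h2g, map_sum, Matrix.mul_apply]
    simp only [map_sum, pair, Algebra.TensorProduct.lift_tmul, map_mul, Matrix.mul_apply, Matrix.transpose_apply,
      Matrix.map_apply, Finset.sum_mul]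
    rw [Finset.sum_comm]
    refine Finset.sum_congr rfl fun k _ => Finset.sum_congr rfl fun l _ => ?_
    simp only [AlgHom.comp_apply]
    ring
  set S0 := ((Rm.map γ).transpose * (mat i₀ φ).map f)⁻¹ * (mat i₀ φ).map f' with hS0
  have huRf : IsUnit ((Rm.map γ).transpose * (mat i₀ φ).map f).det := by
    rw [Matrix.det_mul]; exact huR.mul (hu f)
  have uS0 : IsUnit S0.det := by
    rw [hS0, Matrix.det_mul]
    exact (Matrix.isUnit_nonsing_inv_det _ huRf).mul (hu f')
  -- the column of `S0`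
  have hcol : ∀ i, ((mat i₀ φ).map f') i i₀ = ((Rm.map γ).transpose * (mat i₀ φ).map f) i i₀ := by
    intro i
    rw [Matrix.map_apply, mat_col, Matrix.mul_apply]
    have h1 := hγ (φ i)
    rw [hφ, map_sum] at h1
    refine h1.trans (Finset.sum_congr rfl fun k _ => ?_)
    rw [pair, Algebra.TensorProduct.lift_tmul, Matrix.transpose_apply, Matrix.map_apply, Matrix.map_apply, mat_col, mul_comm]
    rfl
  have hS0col : ∀ i, S0 i i₀ = (1 : Matrix n n T) i i₀ := by
    intro i
    rw [hS0, Matrix.mul_apply, ← Matrix.nonsing_inv_mul _ huRf, Matrix.mul_apply]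
    exact Finset.sum_congr rfl fun k _ => by rw [hcol]
  obtain ⟨h, ⟨h1, h2⟩, hu2⟩ := hO T γ S0 uS0 hS0col
  refine ⟨h, ?_, ?_⟩
  · let f2 : Fr i₀ φ →ₐ[A] T := (pair f h).comp ρ2
    have : (f2 : Fr i₀ φ →+* T) = (f' : Fr i₀ φ →+* T) := by
      refine Fr.hom_ext ?_ ?_
      · ext d
        change pair f h (ρ2 (algebraMap D (Fr i₀ φ) d)) = f' (algebraMap D (Fr i₀ φ) d)
        rw [pa, h1, ← hγ]
        rfl
      · have e := pg h
        rw [h1, h2, hS0, ← Matrix.mul_assoc, Matrix.mul_nonsing_inv _ huRf, Matrix.one_mul] at e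
        exact e
    intro d
    exact (RingHom.congr_fun this d).symm
  · intro h' hh'
    have e1 : h'.comp ι = γ := by
      refine γu _ (fun d => ?_)
      have := hh' (algebraMap D (Fr i₀ φ) d)
      rw [pa] at this
      exact this
    refine hu2 h' ⟨e1, ?_⟩
    have e := pg h'
    have e' : (mat i₀ φ).map f' = ((Rm.map γ).transpose * (mat i₀ φ).map f) * S.map h' := by
      rw [← e1, ← e]
      ext i j
      exact hh' _
    rw [hS0, e', ← Matrix.mul_assoc, Matrix.nonsing_inv_mul _ huRf, Matrix.one_mul]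

end Frame

end Groth.Agent.ResProp.EF.K199
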